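import Groth.Agent.SemiAbLib.BaseChange
import Groth.Agent.SemiAbLib.Stability
import Groth.Agent.SemiAbLib.Lines
import Groth.Agent.GrpFieldLib.Identity
import Groth.Agent.AlbLib.Torus
import Groth.Agent.NeronQFLib.Basic
import Groth.Prelude.Def_SGA7IX

/-!
# Groups without additive subgroups are stable under extensions of algebraically closed fields
-/

set_option autoImplicit false
set_option backward.isDefEq.respectTransparency false
set_option maxHeartbeats 1000000

universe u

open CategoryTheory CategoryTheory.Limits AlgebraicGeometry MonoidalCategory CartesianMonoidalCategory MonObj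
open Groth.Agent

attribute [-instance] CategoryTheory.Hom.commGroup

namespace UnipKerLib

/-- The additive group over a field is connected. -/
theorem connectedSpace_ga (k : Type u) [Field k] : ConnectedSpace ↥(Red.Ga (Spec (CommRingCat.of k))).left := by
  obtain ⟨v, hv⟩ := SemiAbLib.exists_fromFn k (Red.gaFn (𝟙 (Red.Ga (Spec (CommRingCat.of k)))))
  have h : v ≫ SemiAbLib.toGa k = 𝟙 _ := GaPts.gaFn_injective (by
    show Red.gaFn _ = Red.gaFn _
    rw [GaPts.gaFn_comp, SemiAbLib.gaFn_toGa, hv])
  haveI : IsDomain (SymmetricAlgebra k k) :=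
    (SymmetricAlgebra.equivMvPolynomial (Module.Free.chooseBasis k k)).toMulEquiv.isDomain _
  haveI : ConnectedSpace ↥(CoactBr.sp k (SymmetricAlgebra k k)).left :=
    inferInstanceAs (ConnectedSpace (PrimeSpectrum (SymmetricAlgebra k k)))
  refine Function.Surjective.connectedSpace (f := (SemiAbLib.toGa k).left.base) (fun x => ⟨v.left.base x, ?_⟩)
    (SemiAbLib.toGa k).left.base.hom.continuous
  exact congr($(congrArg CommaMorphism.left h).base x)

variable {k : Type u} [Field k] [IsAlgClosed k] (K : Type u) [Field K] [IsAlgClosed K] [Algebra k K]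

/-- No additive subgroups appear over a larger algebraically closed field. -/
theorem noGa_bc (G : Over (Spec (CommRingCat.of k))) [GrpObj G] [IsCommMonObj G] [Smooth G.hom]
    (h : ∀ j : Red.Ga (Spec (CommRingCat.of k)) ⟶ G, IsMonHom j → IsClosedImmersion j.left → False)
    (j : Red.Ga (Spec (CommRingCat.of K)) ⟶ Red.bc (Spec.map (CommRingCat.ofHom (algebraMap k K))) G)
    (hj : IsMonHom j) (hjc : IsClosedImmersion j.left) : False := by
  haveI := hj; haveI := hjc
  obtain ⟨G₀, _, i, hi, hic, hif, hir, hgi, hcs⟩ := GrpField.exists_identity_component (G := G)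
  haveI := hi; haveI := hic; haveI := hif; haveI := hgi; haveI := hcs
  haveI : Mono i := Over.mono_of_mono_left i
  haveI : IsCommMonObj G₀ := AntiAffLib.CommCat.isComm_of_mono i
  haveI : IsLocallyNoetherian G.left := LocallyOfFiniteType.isLocallyNoetherian G.hom
  haveI : LocallyOfFinitePresentation i.left := inferInstance
  haveI : IsOpenImmersion i.left := IsOpenImmersion.of_flat_of_mono i.left
  haveI : Smooth G₀.hom := by rw [← Over.w i]; infer_instance
  haveI : Subsingleton ↥(Spec (CommRingCat.of k)) := inferInstanceAs (Subsingleton (PrimeSpectrum k))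
  haveI : Subsingleton ↥(Spec (CommRingCat.of K)) := inferInstanceAs (Subsingleton (PrimeSpectrum K))
  haveI : IrreducibleSpace G₀.left := GeometricallyIrreducible.irreducibleSpace_of_subsingleton G₀.hom
  haveI : QuasiCompact G₀.hom := HasAffineProperty.iff_of_isAffine.2 (inferInstance : CompactSpace G₀.left)
  have h₀ : SemiAbLib.IsSemiAb G₀ := SemiAbLib.isSemiAb_of_no_ga fun m hm hmc => by
    haveI := hm; haveI := hmc
    exact h (m ≫ i) inferInstance (by rw [Over.comp_left]; infer_instance)
  let F := AVAmpleLib.bcF (k := k) K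
  letI : GrpObj (F.obj G) := Functor.grpObjObj
  letI : GrpObj (F.obj G₀) := Functor.grpObjObj
  haveI : IsMonHom (F.map i) := @Functor.map.instIsMonHom _ _ _ _ _ _ F _ _ _ _ _ i _
  have hK : SemiAbLib.IsSemiAb (F.obj G₀) := SemiAbLib.isSemiAb_bc K h₀
  have hsq := AVAmpleLib.isPullback_bc K i
  haveI : IsOpenImmersion (F.map i).left := MorphismProperty.of_isPullback (P := @IsOpenImmersion) hsq ‹_›
  haveI : IsClosedImmersion (F.map i).left := MorphismProperty.of_isPullback (P := @IsClosedImmersion) hsq ‹_›
  haveI : Mono (F.map i) := Over.mono_of_mono_left (F.map i)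
  let j' : Red.Ga (Spec (CommRingCat.of K)) ⟶ F.obj G := j
  haveI : IsMonHom j' := hj
  haveI : IsClosedImmersion j'.left := hjc
  haveI := connectedSpace_ga K
  have hclopen : IsClopen (Set.range (F.map i).left.base) :=
    ⟨(F.map i).left.isClosedEmbedding.isClosed_range, (F.map i).left.opensRange.2⟩
  have hone : ∀ x, (η[F.obj G] : 𝟙_ _ ⟶ F.obj G).left.base x ∈ Set.range (F.map i).left.base := fun x => by
    refine ⟨(η[F.obj G₀] : 𝟙_ _ ⟶ F.obj G₀).left.base x, ?_⟩
    rw [← Scheme.Hom.comp_apply, ← Over.comp_left, IsMonHom.one_hom]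
  have hr : Set.range j'.left.base ⊆ Set.range (F.map i).left.base := by
    refine (isPreconnected_range j'.left.base.hom.continuous).subset_isClopen hclopen
      ⟨j'.left.base ((η[Red.Ga (Spec (CommRingCat.of K))] : 𝟙_ _ ⟶ _).left.base (IsLocalRing.closedPoint K)), ⟨_, rfl⟩, ?_⟩
    rw [← Scheme.Hom.comp_apply, ← Over.comp_left, IsMonHom.one_hom]
    exact hone _
  let l : Red.Ga (Spec (CommRingCat.of K)) ⟶ F.obj G₀ := Over.homMk (IsOpenImmersion.lift (F.map i).left j'.left hr)
    (by rw [← Over.w (F.map i), IsOpenImmersion.lift_fac_assoc, Over.w])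
  have hl : l ≫ F.map i = j' := Over.OverMorphism.ext (IsOpenImmersion.lift_fac _ _ _)
  haveI : IsMonHom l := by
    refine { one_hom := ?_, mul_hom := ?_ }
    · rw [← cancel_mono (F.map i), Category.assoc, hl, IsMonHom.one_hom, IsMonHom.one_hom]
    · rw [← cancel_mono (F.map i), Category.assoc, Category.assoc, hl, IsMonHom.mul_hom, IsMonHom.mul_hom,
        tensorHom_comp_tensorHom_assoc, hl]
  have h1 := hK.eq_one_of_ga l
  refine SemiAbLib.ne_one_of_isClosedImmersion j' ?_
  rw [← hl, h1, MonObj.one_comp]

/-- Transport along an isomorphism of groups. -/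
theorem noGa_iso {G G' : Over (Spec (CommRingCat.of K))} [GrpObj G] [GrpObj G'] (e : G ≅ G') [IsMonHom e.hom]
    (h : ∀ j : Red.Ga (Spec (CommRingCat.of K)) ⟶ G, IsMonHom j → IsClosedImmersion j.left → False)
    (j : Red.Ga (Spec (CommRingCat.of K)) ⟶ G') (hj : IsMonHom j) (hjc : IsClosedImmersion j.left) : False := by
  haveI := hj; haveI := hjc
  haveI : IsIso e.inv.left := inferInstance
  exact h (j ≫ e.inv) inferInstance (by rw [Over.comp_left]; infer_instance)

/-- A fibre without additive subgroups gives points without additive subgroups. -/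
theorem noGa_point {S : Scheme.{u}} {s : S} (G : Over S) [GrpObj G] [IsCommMonObj G] [Smooth G.hom]
    (hs : SGA7.FibreUnipotentRankZero s G) (ξ : Spec (CommRingCat.of K) ⟶ S) (hξ : ξ.base (IsLocalRing.closedPoint K) = s)
    (j : Red.Ga (Spec (CommRingCat.of K)) ⟶ Red.bc ξ G) (hj : IsMonHom j) (hjc : IsClosedImmersion j.left) : False := by
  obtain ⟨ε, hε⟩ := WeightLib.exists_eq_specMap_fromSpecResidueField ξ (x := s) hξ
  letI : Algebra (S.residueField s) K := ε.hom.toAlgebra
  let φ : AlgebraicClosure (S.residueField s) →ₐ[S.residueField s] K := IsAlgClosed.lift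
  letI : Algebra (AlgebraicClosure (S.residueField s)) K := φ.toRingHom.toAlgebra
  let h : Spec (CommRingCat.of K) ⟶ Spec (CommRingCat.of (AlgebraicClosure (S.residueField s))) :=
    Spec.map (CommRingCat.ofHom (algebraMap (AlgebraicClosure (S.residueField s)) K))
  have hh : h ≫ Red.geomPt s = ξ := by
    rw [← hε, ← Spec.map_comp_assoc]
    congr 2
    exact CommRingCat.hom_ext φ.comp_algebraMap
  subst hh
  obtain ⟨e, he⟩ := AlbLib.exists_bc_comp h (Red.geomPt s) G
  haveI : IsMonHom e.inv := inferInstance
  haveI : IsCommMonObj (Red.geomFibre s G) := Functor.isCommMonObj_obj (F := Over.pullback (Red.geomPt s))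
  haveI : Smooth (Red.geomFibre s G).hom := inferInstanceAs (Smooth (pullback.snd G.hom _))
  haveI : IsMonHom e.symm.hom := inferInstanceAs (IsMonHom e.inv)
  exact noGa_iso K e.symm (noGa_bc K (Red.geomFibre s G) hs) j hj hjc

end UnipKerLib
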