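import Groth.Agent.UnipKerLib.Val
import Groth.Agent.TorsLiftLib.Basic
import Groth.Agent.NeronQFLib.Kill
import Groth.Agent.WeightLib.Pts

/-!
# Torsion in the kernel of a homomorphism specializes from the torsion of a generic kernel
-/

set_option autoImplicit false
set_option backward.isDefEq.respectTransparency false

universe u

open CategoryTheory CategoryTheory.Limits AlgebraicGeometry MonoidalCategory CartesianMonoidalCategory
open scoped MonObj

namespace UnipKerLib

variable {S : Scheme.{u}}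

section Unique

/-- A torsion point of invertible order over a local ring reducing to the unit is the unit. -/
theorem eq_one_of_reduction {H : Over S} [GrpObj H] [LocallyOfFiniteType H.hom] {A : Type u} [CommRing A]
    [IsLocalRing A] (a : Spec (CommRingCat.of A) ⟶ S) (d : Over.mk a ⟶ H)
    (hd : Spec.map (CommRingCat.ofHom (IsLocalRing.residue A)) ≫ d.left =
      Spec.map (CommRingCat.ofHom (IsLocalRing.residue A)) ≫ (1 : Over.mk a ⟶ H).left)
    (N : ℕ) (hN : IsUnit (N : A)) (hdN : d ^ N = 1) : d = 1 := by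
  let o : Over.mk a ⟶ H := 1
  let p := IsLocalRing.closedPoint A
  let b := Spec.map (CommRingCat.ofHom (IsLocalRing.residue A))
  have hbp : b.base (IsLocalRing.closedPoint (IsLocalRing.ResidueField A)) = p := PrimeSpectrum.ext (by
    show Ideal.comap (IsLocalRing.residue A) (IsLocalRing.maximalIdeal _) = IsLocalRing.maximalIdeal A
    rw [IsLocalRing.maximalIdeal_eq_bot, ← RingHom.ker_eq_comap_bot, IsLocalRing.ker_residue])
  have hdp : d.left.base p = o.left.base p := by
    rw [← hbp]
    exact congrArg (fun m => m.base (IsLocalRing.closedPoint (IsLocalRing.ResidueField A))) hd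
  obtain ⟨S₀, hS₀, hpS₀, -⟩ := exists_isAffineOpen_mem_and_subset (U := ⊤) (x := a.base p) trivial
  obtain ⟨U, hU, hpU, hUS⟩ := exists_isAffineOpen_mem_and_subset (U := H.hom ⁻¹ᵁ S₀) (x := o.left.base p) (by
    show H.hom.base (o.left.base p) ∈ S₀
    rw [← Scheme.Hom.comp_apply, Over.w o]; exact hpS₀)
  have hfac : ∀ (m : Spec (CommRingCat.of A) ⟶ H.left), m.base p ∈ U →
      ∃ φ : Γ(H.left, U) ⟶ CommRingCat.of A, Spec.map φ ≫ hU.fromSpec = m := fun m hm => by
    have hr : Set.range m.base ⊆ Set.range hU.fromSpec.base := by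
      rw [hU.range_fromSpec]
      rintro _ ⟨y, rfl⟩
      exact ((IsLocalRing.specializes_closedPoint y).map m.continuous).mem_open U.isOpen hm
    obtain ⟨φ, hφ⟩ := Spec.map_surjective (IsOpenImmersion.lift hU.fromSpec m hr)
    exact ⟨φ, by rw [hφ, IsOpenImmersion.lift_fac]⟩
  obtain ⟨φd, hφd⟩ := hfac d.left (hdp ▸ hpU)
  obtain ⟨φo, hφo⟩ := hfac o.left hpU
  let ρ := H.hom.appLE S₀ U hUS
  have hρ : ρ ≫ φd = ρ ≫ φo := by
    apply Spec.map_injective
    rw [← cancel_mono hS₀.fromSpec, Spec.map_comp, Spec.map_comp, Category.assoc, Category.assoc,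
      IsAffineOpen.SpecMap_appLE_fromSpec H.hom hS₀ hU hUS, reassoc_of% hφd, reassoc_of% hφo, Over.w d, Over.w o]
  have hft : ρ.hom.FiniteType := H.hom.finiteType_appLE hS₀ hU hUS
  letI := ρ.hom.toAlgebra
  haveI : Algebra.FiniteType Γ(S, S₀) Γ(H.left, U) := hft
  obtain ⟨F, hF⟩ := Algebra.FiniteType.out (R := Γ(S, S₀)) (A := Γ(H.left, U))
  let I : Ideal A := Ideal.span ((fun g => φd.hom g - φo.hom g) '' (F : Set Γ(H.left, U)))
  have hIfg : I.FG := Submodule.fg_span (F.finite_toSet.image _)
  have hcongr : ∀ (J : Ideal A), (∀ g ∈ F, φd.hom g - φo.hom g ∈ J) → ∀ x, φd.hom x - φo.hom x ∈ J := fun J hJ x => by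
    have hx : x ∈ Algebra.adjoin Γ(S, S₀) (F : Set Γ(H.left, U)) := hF ▸ trivial
    induction hx using Algebra.adjoin_induction with
    | mem g hg => exact hJ g hg
    | algebraMap r =>
      rw [show φd.hom (algebraMap _ _ r) = φo.hom (algebraMap _ _ r) from
        congrArg (fun m : Γ(S, S₀) ⟶ CommRingCat.of A => m.hom r) hρ, sub_self]
      exact J.zero_mem
    | add x y _ _ hx hy => rw [map_add, map_add, add_sub_add_comm]; exact J.add_mem hx hy
    | mul x y _ _ hx hy =>
      rw [map_mul, map_mul, show φd.hom x * φd.hom y - φo.hom x * φo.hom y =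
        φd.hom x * (φd.hom y - φo.hom y) + (φd.hom x - φo.hom x) * φo.hom y by ring]
      exact J.add_mem (J.mul_mem_left _ hy) (J.mul_mem_right _ hx)
  have hIm : I ≤ IsLocalRing.maximalIdeal A := by
    rw [Ideal.span_le]
    rintro _ ⟨g, -, rfl⟩
    rw [SetLike.mem_coe, ← IsLocalRing.ker_residue, RingHom.mem_ker, map_sub, sub_eq_zero]
    refine congrArg (fun m : Γ(H.left, U) ⟶ CommRingCat.of (IsLocalRing.ResidueField A) => m.hom g)
      (Spec.map_injective (show Spec.map (φd ≫ CommRingCat.ofHom (IsLocalRing.residue A)) =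
        Spec.map (φo ≫ CommRingCat.ofHom (IsLocalRing.residue A)) from ?_))
    rw [← cancel_mono hU.fromSpec, Spec.map_comp, Spec.map_comp, Category.assoc, Category.assoc, hφd, hφo]
    exact hd
  have hI2 : I ≤ I ^ 2 := by
    let A₂ := CommRingCat.of (A ⧸ I ^ 2)
    let π : A₂ ⟶ CommRingCat.of (A ⧸ I) := CommRingCat.ofHom (Ideal.Quotient.factor (Ideal.pow_le_self two_ne_zero))
    let q := CommRingCat.ofHom (Ideal.Quotient.mk (I ^ 2))
    let i : Over.mk (Spec.map q ≫ a) ⟶ Over.mk a := Over.homMk (Spec.map q) rfl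
    have hq : q ≫ π = CommRingCat.ofHom (Ideal.Quotient.mk I) := rfl
    have hone : (1 : Over.mk (Spec.map q ≫ a) ⟶ H).left = Spec.map q ≫ o.left := by
      rw [← MonObj.comp_one i]; rfl
    have hmod : φd ≫ CommRingCat.ofHom (Ideal.Quotient.mk I) = φo ≫ CommRingCat.ofHom (Ideal.Quotient.mk I) := by
      ext x
      exact Ideal.Quotient.eq.2 (hcongr I (fun g hg => Ideal.subset_span ⟨g, hg, rfl⟩) x)
    have hle : I ^ 2 ≤ I := Ideal.pow_le_self two_ne_zero
    have h1 : i ≫ d = 1 := AbSchLib.eq_one_of_zpow_eq_one π (Ideal.Quotient.factor_surjective hle)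
      (by
        show RingHom.ker (Ideal.Quotient.factor hle) ^ 2 = ⊥
        rw [Ideal.Quotient.factor_ker hle, ← Ideal.map_pow, Ideal.map_quotient_self])
      (Spec.map q ≫ a) (i ≫ d)
      (by
        rw [hone]
        show Spec.map π ≫ Spec.map q ≫ d.left = _
        rw [← hφd, ← hφo]
        simp only [← Spec.map_comp_assoc, Category.assoc, hq, hmod])
      (N : ℤ) (by rw [Int.cast_natCast]; exact (map_natCast (Ideal.Quotient.mk (I ^ 2)) N) ▸ hN.map _)
      (by rw [zpow_natCast, ← MonObj.comp_pow, hdN, MonObj.comp_one])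
    have h2 : φd ≫ q = φo ≫ q := by
      apply Spec.map_injective
      rw [← cancel_mono hU.fromSpec, Spec.map_comp, Spec.map_comp, Category.assoc, Category.assoc, hφd, hφo, ← hone,
        ← h1]
      rfl
    rw [Ideal.span_le]
    rintro _ ⟨g, -, rfl⟩
    exact Ideal.Quotient.eq.1 (congrArg (fun m : Γ(H.left, U) ⟶ A₂ => m.hom g) h2)
  have hI0 : I = ⊥ := by
    refine Submodule.eq_bot_of_le_smul_of_le_jacobson_bot I I hIfg ?_ (hIm.trans (IsLocalRing.maximalIdeal_le_jacobson _))
    rwa [smul_eq_mul, ← pow_two]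
  have hφ : φd = φo := by
    ext x
    have := hcongr ⊥ (fun g hg => hI0 ▸ Ideal.subset_span ⟨g, hg, rfl⟩) x
    rwa [Ideal.mem_bot, sub_eq_zero] at this
  ext1
  rw [← hφd, hφ, hφo]

end Unique

section Power

variable (G : Over S) [GrpObj G] [IsCommMonObj G] [Flat G.hom] [LocallyOfFinitePresentation G.hom]

theorem pullback_map_pow {T : Scheme.{u}} (ξ : T ⟶ S) (n : ℕ) :
    letI : GrpObj ((Over.pullback ξ).obj G) := Functor.grpObjObj
    (Over.pullback ξ).map ((𝟙 G : G ⟶ G) ^ n) =
      (𝟙 ((Over.pullback ξ).obj G) : (Over.pullback ξ).obj G ⟶ (Over.pullback ξ).obj G) ^ n := by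
  letI : GrpObj ((Over.pullback ξ).obj G) := Functor.grpObjObj
  induction n with
  | zero => rw [pow_zero, pow_zero, Functor.map_one]
  | succ n ih => rw [pow_succ, pow_succ, Functor.map_mul, ih, CategoryTheory.Functor.map_id]

/-- Powers by integers invertible on the base are étale on flat commutative groups. -/
theorem etale_pow {R : Type u} [CommRing R] (G : Over (Spec (CommRingCat.of R))) [GrpObj G] [IsCommMonObj G]
    [Flat G.hom] [LocallyOfFinitePresentation G.hom] (N : ℕ) (hN : IsUnit (N : R)) :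
    Etale ((𝟙 G : G ⟶ G) ^ N).left := by
  let f := ((𝟙 G : G ⟶ G) ^ N).left
  haveI : FormallyUnramified f := by
    have h := AbSchLib.formallyUnramified_zpow G (N : ℤ) (by
      rw [Int.cast_natCast]
      have := hN.map (Scheme.ΓSpecIso (CommRingCat.of R)).inv.hom
      rwa [map_natCast] at this)
    rwa [zpow_natCast] at h
  haveI : Flat f := by
    refine AbSchLib.flat_of_geometric_fibres ((𝟙 G : G ⟶ G) ^ N) fun K _ _ ξ => ?_
    letI : GrpObj ((Over.pullback ξ).obj G) := Functor.grpObjObj
    haveI : IsCommMonObj ((Over.pullback ξ).obj G) := Functor.isCommMonObj_obj (F := Over.pullback ξ)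
    haveI : LocallyOfFiniteType ((Over.pullback ξ).obj G).hom :=
      inferInstanceAs (LocallyOfFiniteType (pullback.snd G.hom ξ))
    have hK : (N : K) ≠ 0 := by
      have := hN.map (Spec.preimage ξ).hom
      rw [map_natCast] at this
      exact this.ne_zero
    haveI := WeilResLib.etale_pow ((Over.pullback ξ).obj G) N hK
    rw [pullback_map_pow]
    infer_instance
  haveI : LocallyOfFinitePresentation (f ≫ G.hom) := by rw [Over.w]; infer_instance
  haveI : LocallyOfFiniteType (f ≫ G.hom) := by rw [Over.w]; infer_instance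
  haveI : LocallyOfFiniteType G.hom := inferInstance
  haveI : LocallyOfFinitePresentation f := Groth.Agent.S12442.lfp_of_comp_lft f G.hom
  exact Etale.of_formallyUnramified_of_flat _

/-- Torsion points of invertible order lift along henselian local rings. -/
theorem exists_lift {A : Type u} [CommRing A] [HenselianLocalRing A] (a : Spec (CommRingCat.of A) ⟶ S)
    (N : ℕ) (hN : IsUnit (N : A))
    (τ : Over.mk (Spec.map (CommRingCat.ofHom (IsLocalRing.residue A)) ≫ a) ⟶ G) (hτ : τ ^ N = 1) :
    ∃ σ : Over.mk a ⟶ G, σ ^ N = 1 ∧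
      Spec.map (CommRingCat.ofHom (IsLocalRing.residue A)) ≫ σ.left = τ.left := by
  let P := Over.pullback a
  letI : GrpObj (P.obj G) := Functor.grpObjObj
  haveI : IsCommMonObj (P.obj G) := Functor.isCommMonObj_obj (F := P)
  haveI : Flat (P.obj G).hom := inferInstanceAs (Flat (pullback.snd G.hom a))
  haveI : LocallyOfFinitePresentation (P.obj G).hom := inferInstanceAs (LocallyOfFinitePresentation (pullback.snd G.hom a))
  let f := ((𝟙 G : G ⟶ G) ^ N).left
  let e : Spec (CommRingCat.of A) ⟶ G.left := (1 : Over.mk a ⟶ G).left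
  have he : e ≫ G.hom = a := Over.w (1 : Over.mk a ⟶ G)
  let eA : Spec (CommRingCat.of A) ⟶ (P.obj G).left := pullback.lift e (𝟙 _) (by rw [he, Category.id_comp])
  have hsq := NeronQFLib.isPullback_map a ((𝟙 G : G ⟶ G) ^ N)
  haveI : Etale (P.map ((𝟙 G : G ⟶ G) ^ N)).left := by
    rw [pullback_map_pow]
    exact etale_pow (P.obj G) N hN
  let v := pullback.snd f e
  haveI : Etale v := by
    let w := pullback.snd (P.map ((𝟙 G : G ⟶ G) ^ N)).left eA
    haveI : Etale w := MorphismProperty.pullback_snd (P := @Etale) _ _ inferInstance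
    have hbig : IsPullback (pullback.fst (P.map ((𝟙 G : G ⟶ G) ^ N)).left eA ≫ pullback.fst G.hom a) w f
        (eA ≫ pullback.fst G.hom a) :=
      ((IsPullback.of_hasPullback (P.map ((𝟙 G : G ⟶ G) ^ N)).left eA).paste_horiz hsq)
    rw [pullback.lift_fst] at hbig
    rw [show v = hbig.isoPullback.inv ≫ w from hbig.isoPullback_inv_snd.symm]
    infer_instance
  have hpow : ∀ {T : Over S} (x : T ⟶ G), x.left ≫ f = (x ^ N).left := fun x => by
    rw [← Over.comp_left, MonObj.comp_pow, Category.comp_id]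
  let b := Spec.map (CommRingCat.ofHom (IsLocalRing.residue A))
  have hb : (1 : Over.mk (b ≫ a) ⟶ G).left = b ≫ e := by
    rw [← MonObj.comp_one (Over.homMk b rfl : Over.mk (b ≫ a) ⟶ Over.mk a)]; rfl
  let w₀ : Spec (CommRingCat.of (IsLocalRing.ResidueField A)) ⟶ pullback f e :=
    pullback.lift τ.left b (by rw [hpow, hτ, hb])
  obtain ⟨z, hz, hzw⟩ := SubmDescLib.exists_hensel_section (IsLocalRing.residue A) IsLocalRing.residue_surjective v w₀
    (pullback.lift_snd _ _ _)
  have hzG : (z ≫ pullback.fst f e) ≫ G.hom = a := by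
    rw [Category.assoc, ← Over.w ((𝟙 G : G ⟶ G) ^ N), ← Category.assoc _ ((𝟙 G : G ⟶ G) ^ N).left, pullback.condition,
      Category.assoc, he, reassoc_of% hz]
  refine ⟨Over.homMk (z ≫ pullback.fst f e) hzG, Over.OverMorphism.ext ?_, ?_⟩
  · rw [← hpow]
    show (z ≫ pullback.fst f e) ≫ f = e
    rw [Category.assoc, pullback.condition, reassoc_of% hz]
  · show b ≫ z ≫ pullback.fst f e = τ.left
    rw [← Category.assoc, hzw, pullback.lift_fst]

end Power

/-- The kernel over `t` is killed by `d`, hence so is prime-to-characteristic torsion of kernels over specializations. -/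
theorem torsion_kernel_bound {G H : Over S} [GrpObj G] [IsCommMonObj G] [Flat G.hom] [IsSeparated G.hom]
    [LocallyOfFinitePresentation G.hom] [GrpObj H] [LocallyOfFiniteType H.hom] (u : G ⟶ H) [IsMonHom u]
    {s t : S} (hts : t ⤳ s) (d : ℕ)
    (hd : ∀ (L : Type u) [Field L] (c : Spec (CommRingCat.of L) ⟶ Spec (S.residueField t))
      (x : Over.mk (c ≫ S.fromSpecResidueField t) ⟶ G), x ≫ u = 1 → x ^ d = 1)
    (x : Over.mk (Spec.map (CommRingCat.ofHom (algebraMap (S.residueField s) (AlgebraicClosure (S.residueField s)))) ≫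
      S.fromSpecResidueField s) ⟶ G)
    (hx : x ≫ u = 1) (N : ℕ) (hN : (N : S.residueField s) ≠ 0) (hxN : x ^ N = 1) : x ^ d = 1 := by
  obtain ⟨A, _, _, _, _, L, _, _, _, _, a, c, has, hac⟩ := exists_valuationRing hts
  let K := AlgebraicClosure (S.residueField s)
  let k' := IsLocalRing.ResidueField A
  let b := Spec.map (CommRingCat.ofHom (IsLocalRing.residue A))
  let b₀ := Spec.map (CommRingCat.ofHom (algebraMap (S.residueField s) K))
  obtain ⟨ε, hε⟩ := WeightLib.exists_eq_specMap_fromSpecResidueField (Ω := k') (b ≫ a) (x := s) (by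
    show (b ≫ a).base _ = s
    rw [Scheme.Hom.comp_apply, ← has]
    congr 1
    exact IsLocalRing.comap_closedPoint (S := k') (IsLocalRing.residue A))
  letI : Algebra (S.residueField s) k' := ε.hom.toAlgebra
  let lam : K →ₐ[S.residueField s] k' := IsAlgClosed.lift
  let l := Spec.map (CommRingCat.ofHom lam.toRingHom)
  have hl : l ≫ b₀ ≫ S.fromSpecResidueField s = b ≫ a := by
    rw [← hε, ← Category.assoc, ← Spec.map_comp]
    congr 2
    ext r
    exact lam.commutes r
  let j : Over.mk (b ≫ a) ⟶ Over.mk (b₀ ≫ S.fromSpecResidueField s) := Over.homMk l hl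
  have hNA : IsUnit (N : A) := by
    by_contra h
    have h' : IsLocalRing.residue A (N : A) = 0 := by
      rw [← RingHom.mem_ker, IsLocalRing.ker_residue]; exact h
    rw [map_natCast, ← map_natCast ε.hom, map_eq_zero] at h'
    exact hN h'
  obtain ⟨σ, hσN, hσ⟩ := exists_lift G a N hNA (j ≫ x) (by rw [← MonObj.comp_pow, hxN, MonObj.comp_one])
  have hσu : σ ≫ u = 1 := by
    refine eq_one_of_reduction a _ ?_ N hNA (by rw [← MonObj.pow_comp, hσN, MonObj.one_comp])
    rw [Over.comp_left, ← Category.assoc, hσ, ← Over.comp_left, Category.assoc, hx, MonObj.comp_one]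
    rw [← MonObj.comp_one (Over.homMk b rfl : Over.mk (b ≫ a) ⟶ Over.mk a)]
    rfl
  have hσd : σ ^ d = 1 := by
    let g := Spec.map (CommRingCat.ofHom (algebraMap A L))
    let jg : Over.mk (c ≫ S.fromSpecResidueField t) ⟶ Over.mk a := Over.homMk g hac
    have h1 := hd L c (jg ≫ σ) (by rw [Category.assoc, hσu, MonObj.comp_one])
    rw [← MonObj.comp_pow, ← MonObj.comp_one jg] at h1
    haveI : IsDominant g := by
      constructor
      exact PrimeSpectrum.denseRange_comap_iff_ker_le_nilRadical _ |>.2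
        (by rw [CommRingCat.hom_ofHom, (RingHom.injective_iff_ker_eq_bot _).1 (IsFractionRing.injective A L)]; exact bot_le)
    haveI : AlgebraicGeometry.IsReduced (Over.mk a).left :=
      inferInstanceAs (AlgebraicGeometry.IsReduced (Spec (CommRingCat.of A)))
    ext1
    exact ext_of_isDominant_of_isSeparated G.hom ((Over.w (σ ^ d)).trans (Over.w (1 : Over.mk a ⟶ G)).symm) g
      (congrArg Over.Hom.left h1)
  have h2 : j ≫ x ^ d = j ≫ 1 := by
    rw [MonObj.comp_pow, MonObj.comp_one]
    have hjx : j ≫ x = (Over.homMk b rfl : Over.mk (b ≫ a) ⟶ Over.mk a) ≫ σ := Over.OverMorphism.ext hσ.symm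
    rw [hjx, ← MonObj.comp_pow, hσd, MonObj.comp_one]
  haveI : Flat l := (flat_and_surjective_SpecMap_iff (CommRingCat.ofHom lam.toRingHom)).mpr
    (by letI := lam.toRingHom.toAlgebra; exact RingHom.faithfullyFlat_algebraMap_iff.mpr inferInstance) |>.1
  haveI : Surjective l := (flat_and_surjective_SpecMap_iff (CommRingCat.ofHom lam.toRingHom)).mpr
    (by letI := lam.toRingHom.toAlgebra; exact RingHom.faithfullyFlat_algebraMap_iff.mpr inferInstance) |>.2
  ext1
  rw [← cancel_epi l]
  exact congrArg Over.Hom.left h2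

end UnipKerLib
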