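import Groth.Agent.SemiAbLib.FinIsog
import Groth.Agent.SemiAbLib.Stability
import Groth.Agent.UnipKerLib.Torsion
import Groth.Agent.NeronQFLib.Basic
import Groth.Agent.GrpHomLib.Image

/-!
# The power maps of a connected group variety
-/

set_option autoImplicit false
set_option backward.isDefEq.respectTransparency false
set_option maxHeartbeats 1000000

universe u

open CategoryTheory CategoryTheory.Limits AlgebraicGeometry MonoidalCategory CartesianMonoidalCategory MonObj
open Groth.Agent

attribute [-instance] CategoryTheory.Hom.commGroup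

namespace UnipKerLib

variable {k : Type u} [Field k] (G : Over (Spec (CommRingCat.of k))) [GrpObj G] [IsCommMonObj G] [Smooth G.hom]
  [QuasiCompact G.hom] [ConnectedSpace G.left]

/-- For an endomorphism of a connected group variety flatness, surjectivity and quasi-finiteness agree. -/
theorem endo_spec (f : G ⟶ G) [IsMonHom f] :
    (Flat f.left → Surjective f.left) ∧ (Surjective f.left → Flat f.left ∧ LocallyQuasiFinite f.left) ∧
      (LocallyQuasiFinite f.left → Surjective f.left) := by
  haveI := AlbLib.geometricallyIntegral_grp G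
  haveI : Subsingleton ↥(Spec (CommRingCat.of k)) := inferInstanceAs (Subsingleton (PrimeSpectrum k))
  haveI : IsIntegral G.left := GeometricallyIntegral.isIntegral_of_subsingleton G.hom
  haveI : IsSeparated G.hom := Groth.Agent.GrpField.isSeparated_grp (G := G)
  haveI : LocallyOfFinitePresentation f.left := AntiAffLib.lfp_of_lft f
  haveI : QuasiCompact f.left := by
    haveI : QuasiCompact (f.left ≫ G.hom) := by rw [Over.w f]; infer_instance
    exact QuasiCompact.of_comp f.left G.hom
  refine ⟨fun hf => ?_, fun hf => ?_, fun hf => ?_⟩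
  · haveI := hf
    haveI : UniversallyOpen f.left := inferInstance
    exact GrpHom.surjective_of_denseRange f (f.left.isOpenMap.isOpen_range.dense (Set.range_nonempty _))
  · haveI := hf
    haveI := SemiAbLib.isFinite_of_surjective f
    exact ⟨AntiAffLib.flat_of_surjective f, inferInstance⟩
  · haveI := hf
    let y := genericPoint G.left
    have hy : closure ({y} : Set G.left) = Set.univ := genericPoint_spec G.left
    obtain ⟨g, hg⟩ := UOpenLib.exists_fibreDimAt_eq_nat G.hom (f.left y)
    have hl : FlatMor.localDim G.left (f.left y) = g :=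
      (AlgSpLib.fibreDimAt_eq_localDim G.hom (f.left y)).symm.trans hg
    have hd : topologicalKrullDim G.left = g := (FibDimLib.localDim_of_irreducible G.hom (f.left y)).symm.trans hl
    have hc : topologicalKrullDim (closure ({f.left.base y} : Set G.left)) = g := by
      rw [← NeronQFLib.dim_closure_eq_of_lqf f y, hy, ← hd]
      exact IsHomeomorph.topologicalKrullDim_eq _ (Homeomorph.Set.univ G.left).isHomeomorph
    have hmem := NeronQFLib.isMax_of_dim G.hom (f.left y) hl hc
    rw [irreducibleComponents_eq_singleton, Set.mem_singleton_iff] at hmem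
    refine GrpHom.surjective_of_denseRange f (dense_iff_closure_eq.2 (Set.eq_univ_of_univ_subset ?_))
    exact hmem.symm.subset.trans (closure_mono (Set.singleton_subset_iff.2 ⟨y, rfl⟩))

/-- A quasi-finite power map in characteristic dividing the exponent excludes additive subgroups. -/
theorem noGa_of_pow [IsAlgClosed k] (m : ℕ) (hmk : (m : k) = 0) [LocallyQuasiFinite ((𝟙 G : G ⟶ G) ^ m).left]
    (j : Red.Ga (Spec (CommRingCat.of k)) ⟶ G) (hj : IsMonHom j) (hjc : IsClosedImmersion j.left) : False := by
  haveI := hj; haveI := hjc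
  haveI : IsSeparated G.hom := Groth.Agent.GrpField.isSeparated_grp (G := G)
  let f := ((𝟙 G : G ⟶ G) ^ m).left
  haveI : QuasiCompact f := by
    haveI : QuasiCompact (f ≫ G.hom) := by rw [Over.w]; infer_instance
    exact QuasiCompact.of_comp f G.hom
  haveI := SemiAbLib.infinite_ga_points (k := k)
  have hfin := f.finite_preimage (Set.finite_singleton
    (AVAmpleLib.pt (1 : 𝟙_ (Over (Spec (CommRingCat.of k))) ⟶ G)))
  have hinj : Function.Injective (fun a : 𝟙_ (Over (Spec (CommRingCat.of k))) ⟶ Red.Ga (Spec (CommRingCat.of k)) =>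
      AVAmpleLib.pt (a ≫ j)) := fun a b h => by
    haveI : Mono j := Over.mono_of_mono_left j
    exact (cancel_mono j).1 (AVRigidLib.ext_pt h)
  refine (Set.infinite_range_of_injective hinj) (hfin.subset ?_)
  rintro _ ⟨a, rfl⟩
  have hpow : ∀ n : ℕ, Red.gaFn (a ^ n) = n • Red.gaFn a := fun n => by
    induction n with
    | zero => rw [pow_zero, GaPts.gaFn_one, zero_smul]
    | succ n ih => rw [pow_succ, GaPts.gaFn_mul, ih, succ_nsmul]
  have ha : a ^ m = 1 := by
    refine GaPts.gaFn_injective ?_
    show Red.gaFn _ = Red.gaFn _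
    rw [hpow, GaPts.gaFn_one, nsmul_eq_mul,
      ← map_natCast (SemiAbLib.fnHom k (X := 𝟙_ (Over (Spec (CommRingCat.of k))))) m, hmk, map_zero, zero_mul]
  show f.base (AVAmpleLib.pt (a ≫ j)) = _
  rw [← show AVAmpleLib.pt ((a ≫ j) ≫ (𝟙 G : G ⟶ G) ^ m) = f.base (AVAmpleLib.pt (a ≫ j)) from rfl,
    MonObj.comp_pow, Category.comp_id, ← MonObj.pow_comp, ha, MonObj.one_comp]

end UnipKerLib
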