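import Mathlib

/-!
# Valuation rings of algebraically closed fields through a specialization
-/

set_option autoImplicit false

universe u

open CategoryTheory AlgebraicGeometry Polynomial IsLocalRing

namespace UnipKerLib

variable {Ω : Type u} [Field Ω] [IsAlgClosed Ω] (A : ValuationSubring Ω)

theorem exists_root_mem {f : Polynomial A} (hf : f.Monic) (hd : f.degree ≠ 0) : ∃ a : A, f.IsRoot a := by
  obtain ⟨r, hr⟩ := IsAlgClosed.exists_root (f.map (algebraMap A Ω)) (by
    rwa [hf.degree_map])
  have hint : IsIntegral A r := ⟨f, hf, by rwa [← Polynomial.eval_map]⟩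
  obtain ⟨a, ha⟩ := IsIntegrallyClosed.isIntegral_iff.mp hint
  refine ⟨a, (FaithfulSMul.algebraMap_injective A Ω) ?_⟩
  rw [map_zero, ← aeval_algebraMap_apply_eq_algebraMap_eval, ha, aeval_def, ← Polynomial.eval_map]
  exact hr

/-- A valuation ring of an algebraically closed field is henselian. -/
theorem henselian : HenselianLocalRing A := by
  haveI : IsLocalRing A := inferInstance
  refine ⟨fun f hf a₀ h₀ hder => ?_⟩
  induction hn : f.natDegree using Nat.strong_induction_on generalizing f with
  | _ n ih =>
    by_cases hd : f.degree = 0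
    · rw [Monic.natDegree_eq_zero hf |>.mp (natDegree_eq_of_degree_eq_some hd)] at h₀
      simp at h₀
    obtain ⟨a, ha⟩ := exists_root_mem A hf hd
    by_cases hm : a - a₀ ∈ maximalIdeal A
    · exact ⟨a, ha, hm⟩
    obtain ⟨g, rfl⟩ := dvd_iff_isRoot.mpr ha
    have hg : g.Monic := (monic_X_sub_C a).of_mul_monic_left hf
    have hu : IsUnit (a₀ - a) := by
      by_contra h
      exact hm (by rw [← neg_sub]; exact neg_mem h)
    simp only [eval_mul, eval_sub, eval_X, eval_C] at h₀
    have hg0 : g.eval a₀ ∈ maximalIdeal A := by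
      rcases (IsLocalRing.maximalIdeal.isMaximal A).isPrime.mem_or_mem h₀ with h | h
      · exact absurd hu h
      · exact h
    simp only [derivative_mul, derivative_sub, derivative_X, derivative_C, sub_zero, one_mul, eval_add, eval_mul,
      eval_sub, eval_X, eval_C] at hder
    have hgd : IsUnit (g.derivative.eval a₀) := by
      by_contra h
      have h' : g.derivative.eval a₀ ∈ maximalIdeal A := h
      exact (IsLocalRing.mem_maximalIdeal _).1 (add_mem hg0 (Ideal.mul_mem_left _ _ h')) hder
    obtain ⟨r, hr, hr'⟩ := ih g.natDegree (by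
      rw [← hn, natDegree_mul (monic_X_sub_C a).ne_zero hg.ne_zero, natDegree_X_sub_C]; omega) g hg hg0 hgd rfl
    exact ⟨r, by simp [IsRoot, hr.eq_zero], hr'⟩

/-- The residue field of a valuation ring of an algebraically closed field is algebraically closed. -/
theorem isAlgClosed_residueField : IsAlgClosed (ResidueField A) := by
  refine IsAlgClosed.of_exists_root _ fun p hp hirr => ?_
  obtain ⟨f, hfp, hfd, hf⟩ := lifts_and_degree_eq_and_monic
    (f := residue A) (p := p) (mem_lifts_of_surjective residue_surjective p) hp
  obtain ⟨a, ha⟩ := exists_root_mem A hf (by rw [hfd]; exact (degree_pos_of_irreducible hirr).ne')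
  refine ⟨residue A a, ?_⟩
  rw [← hfp, Polynomial.eval_map, eval₂_at_apply, show f.eval a = 0 from ha, map_zero]

/-- A henselian valuation ring with algebraically closed residue field through a specialization. -/
theorem exists_valuationRing {S : Scheme.{u}} {s t : S} (hts : t ⤳ s) :
    ∃ (A : Type u) (_ : CommRing A) (_ : IsDomain A) (_ : HenselianLocalRing A) (_ : IsAlgClosed (ResidueField A))
      (L : Type u) (_ : Field L) (_ : IsAlgClosed L) (_ : Algebra A L) (_ : IsFractionRing A L)
      (a : Spec (CommRingCat.of A) ⟶ S) (c : Spec (CommRingCat.of L) ⟶ Spec (S.residueField t)),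
      a.base (closedPoint A) = s ∧
        Spec.map (CommRingCat.ofHom (algebraMap A L)) ≫ a = c ≫ S.fromSpecResidueField t := by
  let Ω := AlgebraicClosure (S.residueField t)
  let ι : S.residueField t ⟶ CommRingCat.of Ω := CommRingCat.ofHom (algebraMap (S.residueField t) Ω)
  let ψ : S.presheaf.stalk s ⟶ CommRingCat.of Ω := S.presheaf.stalkSpecializes hts ≫ S.residue t ≫ ι
  obtain ⟨A, hA, hloc⟩ := IsLocalRing.exists_factor_valuationRing ψ.hom
  haveI : IsLocalHom (ψ.hom.codRestrict A.toSubring hA) := hloc
  let χ : S.presheaf.stalk s ⟶ CommRingCat.of A := CommRingCat.ofHom (ψ.hom.codRestrict _ hA)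
  haveI := henselian A
  haveI := isAlgClosed_residueField A
  refine ⟨A, inferInstance, inferInstance, inferInstance, inferInstance, Ω, inferInstance, inferInstance,
    inferInstance, inferInstance, Spec.map χ ≫ S.fromSpecStalk s, Spec.map ι, ?_, ?_⟩
  · rw [Scheme.Hom.comp_apply]
    have : Spec.map χ (IsLocalRing.closedPoint A) = IsLocalRing.closedPoint (S.presheaf.stalk s) :=
      IsLocalRing.comap_closedPoint (S := A) (ψ.hom.codRestrict A.toSubring hA)
    rw [this, S.fromSpecStalk_closedPoint]
  · rw [Scheme.fromSpecResidueField, ← Scheme.SpecMap_stalkSpecializes_fromSpecStalk hts]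
    simp_rw [← Spec.map_comp_assoc]
    rfl

end UnipKerLib
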