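import Groth.Agent.UnipKerLib.Component
import Groth.Agent.SemiAbLib.Exponent
import Groth.Agent.AVAmpleLib.Dense

/-!
# Lifting component classes to points of the same order
-/

set_option autoImplicit false
set_option backward.isDefEq.respectTransparency false
set_option maxHeartbeats 1000000

universe u

open CategoryTheory CategoryTheory.Limits AlgebraicGeometry MonoidalCategory CartesianMonoidalCategory MonObj
open Groth.Agent

attribute [-instance] CategoryTheory.Hom.commGroup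

namespace UnipKerLib

section Abstract

variable {P : Type*} [CommGroup P] (Z : Subgroup P)

/-- The order of a class divides all exponents killing it. -/
theorem exists_order {x : P} (h : ∃ n : ℕ, 0 < n ∧ x ^ n ∈ Z) :
    ∃ m : ℕ, 0 < m ∧ x ^ m ∈ Z ∧ ∀ n : ℕ, x ^ n ∈ Z → m ∣ n := by
  classical
  refine ⟨Nat.find h, (Nat.find_spec h).1, (Nat.find_spec h).2, fun n hn => Nat.dvd_of_mod_eq_zero ?_⟩
  by_contra hne
  refine Nat.find_min h (Nat.mod_lt _ (Nat.find_spec h).1) ⟨Nat.pos_of_ne_zero hne, ?_⟩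
  have e : x ^ n = x ^ (n % Nat.find h) * (x ^ Nat.find h) ^ (n / Nat.find h) := by
    rw [← pow_mul, ← pow_add, Nat.mod_add_div]
  rw [e] at hn
  exact (mul_mem_cancel_right (pow_mem (Nat.find_spec h).2 _)).1 hn

/-- A class whose order-th power is an order-th power lifts to an element of the same order. -/
theorem exists_split {x : P} {m : ℕ} (hdiv : ∀ n : ℕ, x ^ n ∈ Z → m ∣ n) (h : ∃ z ∈ Z, z ^ m = x ^ m) :
    ∃ y : P, x⁻¹ * y ∈ Z ∧ ∀ n : ℕ, y ^ n = 1 ↔ x ^ n ∈ Z := by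
  obtain ⟨z, hz, hzm⟩ := h
  refine ⟨x * z⁻¹, by rw [inv_mul_cancel_left]; exact inv_mem hz, fun n => ⟨fun hn => ?_, fun hn => ?_⟩⟩
  · rw [mul_pow, inv_pow, mul_inv_eq_one] at hn
    rw [hn]; exact pow_mem hz n
  · obtain ⟨c, rfl⟩ := hdiv n hn
    rw [mul_pow, inv_pow, pow_mul, pow_mul, hzm, mul_inv_cancel]

/-- A class splits if it does so on its `p`-part and the subgroup is divisible prime to `p`. -/
theorem exists_split_of_pPart (p : ℕ) (hp : p.Prime) (hfin : ∀ x : P, ∃ n : ℕ, 0 < n ∧ x ^ n ∈ Z)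
    (hdiv : ∀ m : ℕ, ¬ p ∣ m → ∀ z ∈ Z, ∃ w ∈ Z, w ^ m = z)
    (hpp : ∀ x : P, (∃ r : ℕ, x ^ p ^ r ∈ Z) → ∃ y : P, x⁻¹ * y ∈ Z ∧ ∀ n : ℕ, y ^ n = 1 ↔ x ^ n ∈ Z) (x : P) :
    ∃ y : P, x⁻¹ * y ∈ Z ∧ ∀ n : ℕ, y ^ n = 1 ↔ x ^ n ∈ Z := by
  obtain ⟨m, hm0, hm, -⟩ := exists_order Z (hfin x)
  obtain ⟨a, m', hm', rfl⟩ := Nat.exists_eq_pow_mul_and_not_dvd hm0.ne' p hp.ne_one
  obtain ⟨u, v, huv⟩ := (Int.isCoprime_iff_gcd_eq_one.2 (by
    rw [Int.gcd_natCast_natCast]
    exact (hp.coprime_iff_not_dvd.2 hm').pow_left a) : IsCoprime ((p ^ a : ℕ) : ℤ) (m' : ℤ))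
  let x₁ := x ^ (v * (m' : ℤ))
  let x₂ := x ^ (u * ((p ^ a : ℕ) : ℤ))
  have hx₁ : x₁ ^ p ^ a ∈ Z := by
    have e : x₁ ^ p ^ a = (x ^ (p ^ a * m')) ^ v := by
      rw [← zpow_natCast, ← zpow_natCast x, ← zpow_mul, ← zpow_mul]; push_cast; ring_nf
    rw [e]; exact zpow_mem hm v
  have hx₂ : x₂ ^ m' ∈ Z := by
    have e : x₂ ^ m' = (x ^ (p ^ a * m')) ^ u := by
      rw [← zpow_natCast, ← zpow_natCast x, ← zpow_mul, ← zpow_mul]; push_cast; ring_nf
    rw [e]; exact zpow_mem hm u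
  obtain ⟨y₁, hy₁, hy₁'⟩ := hpp x₁ ⟨a, hx₁⟩
  obtain ⟨m₂, hm₂0, hm₂, hm₂d⟩ := exists_order Z (hfin x₂)
  obtain ⟨y₂, hy₂, hy₂'⟩ := exists_split Z hm₂d (hdiv m₂ (fun h => hm' (h.trans (hm₂d m' hx₂))) _ hm₂)
  have hx : x = x₁ * x₂ := by
    rw [← zpow_add, show v * (m' : ℤ) + u * ((p ^ a : ℕ) : ℤ) = 1 by rw [← huv]; ring, zpow_one]
  have hy : x⁻¹ * (y₁ * y₂) ∈ Z := by
    rw [hx, show (x₁ * x₂)⁻¹ * (y₁ * y₂) = (x₁⁻¹ * y₁) * (x₂⁻¹ * y₂) by rw [mul_inv]; ac_rfl]
    exact mul_mem hy₁ hy₂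
  refine ⟨y₁ * y₂, hy, fun n => ⟨fun hn => ?_, fun hn => ?_⟩⟩
  · have h := pow_mem hy n
    rw [mul_pow, hn, _root_.mul_one, inv_pow] at h
    exact inv_mem_iff.1 h
  · have h₁ : x₁ ^ n ∈ Z := by
      have e : x₁ ^ n = (x ^ n) ^ (v * (m' : ℤ)) := by
        rw [← zpow_natCast, ← zpow_natCast x, ← zpow_mul, ← zpow_mul, mul_comm]
      rw [e]; exact zpow_mem hn _
    have h₂ : x₂ ^ n ∈ Z := by
      have e : x₂ ^ n = (x ^ n) ^ (u * ((p ^ a : ℕ) : ℤ)) := by
        rw [← zpow_natCast, ← zpow_natCast x, ← zpow_mul, ← zpow_mul, mul_comm]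
      rw [e]; exact zpow_mem hn _
    rw [mul_pow, (hy₁' n).2 h₁, (hy₂' n).2 h₂, _root_.mul_one]

end Abstract

variable {k : Type u} [Field k] [IsAlgClosed k] (G : Over (Spec (CommRingCat.of k))) [GrpObj G]
  [LocallyOfFiniteType G.hom]

/-- The rational points of the identity component. -/
def zeroPts : Subgroup (𝟙_ (Over (Spec (CommRingCat.of k))) ⟶ G) where
  carrier := {a | AVAmpleLib.pt a ∈ GrpField.Z0 G}
  one_mem' := by
    show AVAmpleLib.pt (1 : 𝟙_ (Over (Spec (CommRingCat.of k))) ⟶ G) ∈ GrpField.Z0 G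
    rw [Hom.one_def, toUnit_unique (toUnit _) (𝟙 _), Category.id_comp]
    exact GrpField.unitPt_mem_Z0 G
  mul_mem' ha hb := GrpField.mul_mem_Z0 _ _ _ ha hb
  inv_mem' ha := GrpField.inv_mem_Z0 _ _ ha

theorem mem_zeroPts (a : 𝟙_ (Over (Spec (CommRingCat.of k))) ⟶ G) :
    a ∈ zeroPts G ↔ AVAmpleLib.pt a ∈ GrpField.Z0 G := Iff.rfl

/-- Two rational points meet the same component when they differ by the identity component. -/
theorem mem_component_iff (a b : 𝟙_ (Over (Spec (CommRingCat.of k))) ⟶ G) :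
    AVAmpleLib.pt b ∈ connectedComponent (AVAmpleLib.pt a) ↔ a⁻¹ * b ∈ zeroPts G := by
  refine ⟨fun h => AVAmpleLib.connectedComponent_pt a b (connectedComponent_eq h), fun h => ?_⟩
  have h1 : AVAmpleLib.pt a = (AVAmpleLib.tL a).left (GrpField.unitPt G) := by
    have e : GrpField.unitPt G = AVAmpleLib.pt (1 : 𝟙_ (Over (Spec (CommRingCat.of k))) ⟶ G) := by
      rw [Hom.one_def, toUnit_unique (toUnit _) (𝟙 _), Category.id_comp]; rfl
    rw [e, ← AVAmpleLib.pt_comp, AVAmpleLib.point_tL, _root_.mul_one]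
  have h2 : AVAmpleLib.pt b = (AVAmpleLib.tL a).left (AVAmpleLib.pt (a⁻¹ * b)) := by
    rw [← AVAmpleLib.pt_comp, AVAmpleLib.point_tL, mul_inv_cancel_left]
  have h3 : _root_.IsPreconnected ((AVAmpleLib.tL a).left '' connectedComponent (GrpField.unitPt G)) :=
    isPreconnected_connectedComponent.image _ (AVAmpleLib.tL a).left.continuous.continuousOn
  refine h3.subset_connectedComponent ⟨_, mem_connectedComponent, h1.symm⟩ ?_
  rw [h2, GrpField.connectedComponent_unit]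
  exact Set.mem_image_of_mem _ h

/-- Every class of components has finite order. -/
theorem exists_pow_mem [QuasiCompact G.hom] (x : 𝟙_ (Over (Spec (CommRingCat.of k))) ⟶ G) :
    ∃ n : ℕ, 0 < n ∧ x ^ n ∈ zeroPts G := by
  haveI : IsLocallyNoetherian G.left := LocallyOfFiniteType.isLocallyNoetherian G.hom
  haveI : CompactSpace G.left := QuasiCompact.compactSpace_of_compactSpace G.hom
  haveI : IsNoetherian G.left := {}
  haveI : TopologicalSpace.NoetherianSpace G.left := inferInstance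
  let f : ℕ → Set G.left := fun n => connectedComponent (AVAmpleLib.pt (x ^ n))
  have hfin : (Set.range f).Finite := by
    refine ((TopologicalSpace.NoetherianSpace.finite_irreducibleComponents (α := G.left)).image
      fun C : Set G.left => ⋃ z ∈ C, connectedComponent z).subset ?_
    rintro _ ⟨n, rfl⟩
    let C := irreducibleComponent (AVAmpleLib.pt (x ^ n))
    refine ⟨C, irreducibleComponent_mem_irreducibleComponents _, ?_⟩
    apply Set.Subset.antisymm
    · refine Set.iUnion₂_subset fun z hz => ?_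
      rw [← connectedComponent_eq (isIrreducible_irreducibleComponent.isConnected.isPreconnected.subset_connectedComponent
        mem_irreducibleComponent hz)]
    · exact Set.subset_biUnion_of_mem (u := fun z => connectedComponent z) mem_irreducibleComponent
  haveI := hfin.to_subtype
  obtain ⟨a, b, hab, e⟩ : ∃ a b : ℕ, a < b ∧ f a = f b := by
    obtain ⟨a, b, hne, e⟩ := Finite.exists_ne_map_eq_of_infinite (fun n => (⟨f n, n, rfl⟩ : Set.range f))
    have e' : f a = f b := congrArg Subtype.val e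
    rcases lt_or_gt_of_ne hne with h | h
    exacts [⟨a, b, h, e'⟩, ⟨b, a, h, e'.symm⟩]
  refine ⟨b - a, by omega, ?_⟩
  have h : AVAmpleLib.pt (x ^ b) ∈ connectedComponent (AVAmpleLib.pt (x ^ a)) := by
    show _ ∈ f a
    rw [e]; exact mem_connectedComponent
  have h' := (mem_component_iff G _ _).1 h
  rwa [← pow_mul_pow_sub x hab.le, inv_mul_cancel_left] at h'

/-- Rational points of the identity component. -/
theorem mem_zeroPts_iff {G₀ : Over (Spec (CommRingCat.of k))} [GrpObj G₀] [LocallyOfFiniteType G₀.hom]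
    (i : G₀ ⟶ G) [IsOpenImmersion i.left] (hr : Set.range i.left = GrpField.Z0 G)
    (a : 𝟙_ (Over (Spec (CommRingCat.of k))) ⟶ G) : a ∈ zeroPts G ↔ ∃ b, b ≫ i = a := by
  haveI : Subsingleton (𝟙_ (Over (Spec (CommRingCat.of k)))).left := inferInstanceAs (Subsingleton (PrimeSpectrum k))
  refine ⟨fun h => ?_, ?_⟩
  · refine ⟨Over.homMk (IsOpenImmersion.lift i.left a.left ?_) ?_, Over.OverMorphism.ext (IsOpenImmersion.lift_fac _ _ _)⟩
    · rintro _ ⟨q, rfl⟩
      rw [Subsingleton.elim q (IsLocalRing.closedPoint k)]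
      exact hr.symm ▸ h
    · rw [← Over.w i, IsOpenImmersion.lift_fac_assoc, Over.w]
  · rintro ⟨b, rfl⟩
    show _ ∈ GrpField.Z0 G
    rw [← hr]
    exact ⟨_, rfl⟩

variable [IsCommMonObj G] [Smooth G.hom]

/-- Divisibility of the identity component without additive subgroups or prime to the characteristic. -/
theorem exists_root_zeroPts (m : ℕ) (hm : m ≠ 0)
    (h : (m : k) ≠ 0 ∨ ∀ j : Red.Ga (Spec (CommRingCat.of k)) ⟶ G, IsMonHom j → IsClosedImmersion j.left → False)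
    (z : 𝟙_ (Over (Spec (CommRingCat.of k))) ⟶ G) (hz : z ∈ zeroPts G) : ∃ w ∈ zeroPts G, w ^ m = z := by
  obtain ⟨G₀, _, i, hi, hic, hif, hir, hgi, hcs⟩ := GrpField.exists_identity_component (G := G)
  haveI := hi; haveI := hic; haveI := hif; haveI := hgi; haveI := hcs
  haveI : Mono i := Over.mono_of_mono_left i
  haveI : IsCommMonObj G₀ := AntiAffLib.CommCat.isComm_of_mono i
  haveI : IsLocallyNoetherian G.left := LocallyOfFiniteType.isLocallyNoetherian G.hom
  haveI : LocallyOfFinitePresentation i.left := inferInstance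
  haveI : IsOpenImmersion i.left := IsOpenImmersion.of_flat_of_mono i.left
  haveI : Smooth G₀.hom := by rw [← Over.w i]; infer_instance
  haveI : Subsingleton ↥(Spec (CommRingCat.of k)) := inferInstanceAs (Subsingleton (PrimeSpectrum k))
  haveI : IrreducibleSpace G₀.left := GeometricallyIrreducible.irreducibleSpace_of_subsingleton G₀.hom
  haveI : QuasiCompact G₀.hom := HasAffineProperty.iff_of_isAffine.2 (inferInstance : CompactSpace G₀.left)
  haveI : IsMonHom ((𝟙 G₀ : G₀ ⟶ G₀) ^ m) := by rw [← zpow_natCast]; exact AbSchLib.isMonHom_zpow G₀ (m : ℤ)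
  haveI : Surjective ((𝟙 G₀ : G₀ ⟶ G₀) ^ m).left := by
    rcases h with h | h
    · haveI := WeilResLib.etale_pow G₀ m h
      exact (endo_spec G₀ _).1 inferInstance
    · have hS : SemiAbLib.IsSemiAb G₀ := SemiAbLib.isSemiAb_of_no_ga fun j hj hjc => by
        haveI := hj; haveI := hjc
        exact h (j ≫ i) inferInstance (by rw [Over.comp_left]; infer_instance)
      exact (hS.pow_spec hm).2.1
  obtain ⟨b, rfl⟩ := (mem_zeroPts_iff G i hir z).1 hz
  haveI : IsSeparated G₀.hom := GrpField.isSeparated_grp (G := G₀)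
  obtain ⟨c, hc⟩ := AVAmpleLib.exists_pt_lift ((𝟙 G₀ : G₀ ⟶ G₀) ^ m) b
  rw [SemiAbLib.pt_pow] at hc
  exact ⟨c ≫ i, (mem_zeroPts_iff G i hir _).2 ⟨c, rfl⟩, by rw [← MonObj.pow_comp, hc]⟩

/-- A `p`-power torsion class lifts to a `p`-power torsion point. -/
theorem exists_pPower_lift [QuasiCompact G.hom] (p : ℕ) (r : ℕ) (x : 𝟙_ (Over (Spec (CommRingCat.of k))) ⟶ G)
    (hx : x ^ p ^ r ∈ zeroPts G) : ∃ y, x⁻¹ * y ∈ zeroPts G ∧ ∃ s : ℕ, y ^ p ^ s = 1 := by
  letI : CommGroup (𝟙_ (Over (Spec (CommRingCat.of k))) ⟶ G) := Hom.commGroup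
  obtain ⟨G₀, _, i, hi, hic, hif, hir, hgi, hcs⟩ := GrpField.exists_identity_component (G := G)
  haveI := hi; haveI := hic; haveI := hif; haveI := hgi; haveI := hcs
  haveI : Mono i := Over.mono_of_mono_left i
  haveI : IsCommMonObj G₀ := AntiAffLib.CommCat.isComm_of_mono i
  haveI : IsLocallyNoetherian G.left := LocallyOfFiniteType.isLocallyNoetherian G.hom
  haveI : LocallyOfFinitePresentation i.left := inferInstance
  haveI : IsOpenImmersion i.left := IsOpenImmersion.of_flat_of_mono i.left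
  haveI : LocallyOfFiniteType G₀.hom := by rw [← Over.w i]; infer_instance
  haveI : QuasiCompact G₀.hom := by rw [← Over.w i]; infer_instance
  obtain ⟨j, C, _, π, iC, hπm, hiC, hiCc, hπs, hπi, hCp⟩ := SemiAbLib.exists_stable_image p G₀
  haveI := hπm; haveI := hiC; haveI := hiCc; haveI := hπs; haveI := hCp
  haveI : LocallyOfFiniteType C.hom := by rw [← Over.w iC]; infer_instance
  haveI : IsSeparated C.hom := GrpField.isSeparated_grp (G := C)
  have hroot : ∀ (s : ℕ) (c : 𝟙_ (Over (Spec (CommRingCat.of k))) ⟶ C), ∃ d, d ^ p ^ s = c := by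
    intro s
    induction s with
    | zero => exact fun c => ⟨c, by rw [pow_zero, pow_one]⟩
    | succ s ih =>
      intro c
      obtain ⟨d, rfl⟩ := ih c
      obtain ⟨e, he⟩ := AVAmpleLib.exists_pt_lift (𝟙 C ^ p) d
      rw [SemiAbLib.pt_pow] at he
      exact ⟨e, by rw [← he, ← pow_mul, pow_succ']⟩
  obtain ⟨g, hg⟩ := (mem_zeroPts_iff G i hir _).1 hx
  obtain ⟨d, hd⟩ := hroot r (g ≫ π)
  obtain ⟨h₀, rfl⟩ := AVAmpleLib.exists_pt_lift π d
  refine ⟨x * (h₀ ≫ i)⁻¹, ?_, r + j, ?_⟩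
  · rw [inv_mul_cancel_left]
    exact inv_mem ((mem_zeroPts_iff G i hir _).2 ⟨h₀, rfl⟩)
  · have e : g ^ p ^ j = (h₀ ^ p ^ j) ^ p ^ r := by
      rw [← SemiAbLib.pt_pow, ← SemiAbLib.pt_pow h₀, ← hπi, ← Category.assoc, ← hd, MonObj.pow_comp,
        Category.assoc]
    rw [mul_pow, pow_add, pow_mul, ← hg, ← MonObj.pow_comp, e, MonObj.pow_comp, MonObj.pow_comp, inv_pow,
      ← pow_mul, _root_.mul_comm (p ^ r), mul_inv_cancel]

end UnipKerLib
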