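import Groth.Agent.SemiAbLib.Basic
import Groth.Agent.AVAmpleLib.NonDegen
import Groth.Agent.GrpHomLib.Image
import Groth.Agent.SemiAbLib.Torus

/-!
# Torsion of semi-abelian varieties is dense
-/

set_option autoImplicit false
set_option backward.isDefEq.respectTransparency false
set_option maxHeartbeats 1000000

universe u

open CategoryTheory CategoryTheory.Limits AlgebraicGeometry MonoidalCategory CartesianMonoidalCategory MonObj
open Groth.Agent

attribute [-instance] CategoryTheory.Hom.commGroup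

namespace UnipKerLib

/-- Torsion points of prime-to-characteristic order are dense in a semi-abelian variety. -/
theorem semi_dense_torsPow {k : Type u} [Field k] [IsAlgClosed k] {G : Over (Spec (CommRingCat.of k))} [GrpObj G]
    [LocallyOfFiniteType G.hom] [QuasiCompact G.hom] (hG : SemiAbLib.IsSemiAb G) (l : ℕ) [Fact l.Prime]
    (hl : (l : k) ≠ 0) : closure (AVAmpleLib.pt '' AVAmpleLib.torsPow G l) = Set.univ := by
  haveI := hG.comm.2
  letI : CommGroup (𝟙_ (Over (Spec (CommRingCat.of k))) ⟶ G) := Hom.commGroup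
  obtain ⟨T, _, iT, A, _, q, hi, hic, hT, hq, hqs, hqf, hker, hAp, hAs, hAc⟩ := hG
  haveI := hi; haveI := hic; haveI := hq; haveI := hqs; haveI := hqf; haveI := hAp; haveI := hAs; haveI := hAc
  haveI : GeometricallyIntegral A.hom := AlbLib.geometricallyIntegral_grp A
  haveI : IsCommMonObj A := CubeConsLib.isCommMonObj_field
  haveI : LocallyOfFiniteType T.hom := by rw [← Over.w iT]; infer_instance
  let C := closure (AVAmpleLib.pt '' AVAmpleLib.torsPow G l)
  obtain ⟨B, _, i, hiB, hcl, hred, hlft, hr⟩ := AVAmpleLib.exists_reduced_subgroup (AVAmpleLib.torsPow G l)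
    ⟨0, one_pow _⟩ (fun a ⟨m, ha⟩ b ⟨n, hb⟩ => ⟨m + n, by
      rw [mul_pow, pow_add, pow_mul, ha, one_pow, _root_.one_mul, mul_comm, pow_mul, hb, one_pow]⟩)
    (fun a ⟨m, ha⟩ => ⟨m, by rw [inv_pow, ha, inv_one]⟩)
  haveI := hiB; haveI := hcl; haveI := hred; haveI := hlft
  -- the torus lies in the closure
  have hTC : ∀ t : 𝟙_ (Over (Spec (CommRingCat.of k))) ⟶ T, AVAmpleLib.pt (t ≫ iT) ∈ C := by
    intro t
    have hmem : iT.left.base (AVAmpleLib.pt t) ∈ iT.left.base '' closure (AVAmpleLib.pt '' AVAmpleLib.torsPow T l) :=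
      ⟨_, by rw [SemiAbLib.torus_dense_torsPow hT l hl]; trivial, rfl⟩
    refine closure_mono ?_ (image_closure_subset_closure_image iT.left.continuous hmem)
    rintro _ ⟨_, ⟨a, ⟨m, ha⟩, rfl⟩, rfl⟩
    exact ⟨a ≫ iT, ⟨m, by rw [← MonObj.pow_comp, ha, MonObj.one_comp]⟩, rfl⟩
  have hfac : ∀ g : 𝟙_ (Over (Spec (CommRingCat.of k))) ⟶ G, AVAmpleLib.pt g ∈ C → ∃ b, b ≫ i = g := by
    intro g hg
    haveI : JacobsonSpace B.left := LocallyOfFiniteType.jacobsonSpace B.hom
    obtain ⟨x, hx⟩ : AVAmpleLib.pt g ∈ Set.range i.left := by rw [hr]; exact hg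
    have hx' : IsClosed ({x} : Set B.left) := by
      have hgc : IsClosed ({AVAmpleLib.pt g} : Set G.left) := (haveI : IsSeparated G.hom := GrpField.isSeparated_grp (G := G); AVRigidLib.isClosed_pt g)
      have : ({x} : Set B.left) = i.left ⁻¹' {AVAmpleLib.pt g} := by
        ext y
        exact ⟨fun h => by rw [h]; exact hx, fun h => i.left.isEmbedding.injective (h.trans hx.symm)⟩
      rw [this]
      exact hgc.preimage i.left.continuous
    obtain ⟨b, rfl⟩ := AVAmpleLib.exists_pt_eq x hx'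
    exact ⟨b, AVRigidLib.ext_pt hx⟩
  haveI : QuasiCompact B.hom := by rw [← Over.w i]; infer_instance
  let p := i ≫ q
  haveI : QuasiCompact (p.left ≫ A.hom) := by rw [Over.w]; infer_instance
  haveI : QuasiCompact p.left := QuasiCompact.of_comp p.left A.hom
  haveI : Surjective p.left := by
    refine ⟨Set.range_eq_univ.1 ?_⟩
    rw [← (GrpHom.isClosed_range p).closure_eq, ← dense_iff_closure_eq]
    refine Dense.mono ?_ (dense_iff_closure_eq.2 (AVAmpleLib.dense_torsPow (A := A) l hl))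
    rintro _ ⟨a, ⟨m, ha⟩, rfl⟩
    obtain ⟨g, hg⟩ := AVAmpleLib.exists_pt_lift q a
    obtain ⟨t, ht⟩ := AntiAffLib.exists_lift_kernel hker (g ^ (l ^ m)) (by rw [MonObj.pow_comp, hg, ha])
    obtain ⟨s, rfl⟩ := SemiAbLib.torus_exists_root hT (pow_ne_zero m (Fact.out : l.Prime).ne_zero) t
    have hg' : (g * (s ≫ iT)⁻¹) ^ (l ^ m) = 1 := by
      rw [mul_pow, inv_pow, ← MonObj.pow_comp, ht, mul_inv_cancel]
    obtain ⟨b, hb⟩ := hfac _ (subset_closure ⟨_, ⟨m, hg'⟩, rfl⟩)
    refine ⟨AVAmpleLib.pt b, ?_⟩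
    have e : b ≫ p = a := by
      rw [← Category.assoc, hb, MonObj.mul_comp, GrpObj.inv_comp, hg, Category.assoc,
        AntiAffLib.kernel_comp hker, MonObj.comp_one, inv_one, _root_.mul_one]
    rw [← e]; rfl
  refine Set.eq_univ_of_univ_subset ?_
  rw [← SemiAbLib.closure_pt_univ G]
  refine closure_minimal ?_ isClosed_closure
  rintro _ ⟨g, -, rfl⟩
  obtain ⟨b, hb⟩ := AVAmpleLib.exists_pt_lift p (g ≫ q)
  obtain ⟨t, ht⟩ := AntiAffLib.exists_lift_kernel hker (g * (b ≫ i)⁻¹) (by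
    rw [MonObj.mul_comp, GrpObj.inv_comp, Category.assoc, hb, mul_inv_cancel])
  obtain ⟨b', hb'⟩ := hfac _ (hTC t)
  have hg : (b' * b) ≫ i = g := by
    rw [MonObj.mul_comp, hb', ht, inv_mul_cancel_right]
  rw [← hg]
  show AVAmpleLib.pt ((b' * b) ≫ i) ∈ C
  rw [show C = Set.range i.left from hr.symm]
  exact ⟨_, rfl⟩

end UnipKerLib
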