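import Groth.Agent.UnipKerLib.Open
import Groth.Agent.UnipKerLib.NoGa
import Groth.Agent.UnipKerLib.Dense

/-!
# Generic points of special fibres of smooth models
-/

set_option autoImplicit false
set_option backward.isDefEq.respectTransparency false
set_option maxHeartbeats 1000000

universe u

open CategoryTheory CategoryTheory.Limits AlgebraicGeometry MonoidalCategory CartesianMonoidalCategory MonObj
open Groth.Agent

attribute [-instance] CategoryTheory.Hom.commGroup

namespace UnipKerLib

/-- A proper generalization of a generic point of the special fibre has no proper generalization. -/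
theorem eq_of_specializes {R : Type u} [CommRing R] [IsDomain R] [IsDiscreteValuationRing R] {X : Scheme.{u}}
    (f : X ⟶ Spec (CommRingCat.of R)) [LocallyOfFiniteType f] (z : X) (hz : f.base z = IsLocalRing.closedPoint R)
    (hmax : ∀ w, w ⤳ z → f.base w = IsLocalRing.closedPoint R → w = z)
    (w w' : X) (hw : w ⤳ z) (hwz : w ≠ z) (hw' : w' ⤳ w) : w' = w := by
  haveI : IsLocallyNoetherian X := LocallyOfFiniteType.isLocallyNoetherian f
  let O := X.presheaf.stalk z
  let j := X.fromSpecStalk z
  let ψ : CommRingCat.of R ⟶ O := Spec.preimage (j ≫ f)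
  have hj : ∀ P : Spec O, f.base (j.base P) = (Spec.map ψ).base P := fun P => by
    rw [Spec.map_preimage]; rfl
  have hjc : j.base (IsLocalRing.closedPoint O) = z := X.fromSpecStalk_closedPoint
  obtain ⟨π, hπ⟩ := IsDiscreteValuationRing.exists_irreducible R
  have hm : IsLocalRing.maximalIdeal O ∈ (Ideal.span {ψ.hom π}).minimalPrimes := by
    refine ⟨⟨inferInstance, ?_⟩, fun P ⟨hP, hle⟩ hPm => ?_⟩
    · rw [Ideal.span_singleton_le_iff_mem]
      have e := (hj (IsLocalRing.closedPoint O)).symm
      rw [hjc, hz] at e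
      have hmem : π ∈ (IsLocalRing.closedPoint R).asIdeal := (IsLocalRing.mem_maximalIdeal π).2 hπ.not_isUnit
      rw [← e] at hmem
      exact hmem
    · let Q : Spec O := ⟨P, hP⟩
      have hQ : (Spec.map ψ).base Q = IsLocalRing.closedPoint R := by
        refine PrimeSpectrum.ext ?_
        refine ((IsLocalRing.maximalIdeal.isMaximal R).eq_of_le ((Spec.map ψ).base Q).isPrime.ne_top ?_).symm
        rw [hπ.maximalIdeal_eq, Ideal.span_singleton_le_iff_mem]
        exact hle (Ideal.mem_span_singleton_self _)
      have hQz : j.base Q = z := hmax _ (X.range_fromSpecStalk.subset ⟨Q, rfl⟩) ((hj Q).trans hQ)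
      have hQm : Q = IsLocalRing.closedPoint O := j.isEmbedding.injective (hQz.trans hjc.symm)
      exact (congrArg PrimeSpectrum.asIdeal hQm).ge
  have hh := Ideal.height_le_one_of_isPrincipal_of_mem_minimalPrimes_of_isLocalRing _ hm
  obtain ⟨P, rfl⟩ : w ∈ Set.range j.base := X.range_fromSpecStalk.symm.subset hw
  obtain ⟨P', rfl⟩ : w' ∈ Set.range j.base := X.range_fromSpecStalk.symm.subset (hw'.trans hw)
  have hle : P'.asIdeal ≤ P.asIdeal :=
    (PrimeSpectrum.le_iff_specializes P' P).2 (j.isEmbedding.toIsInducing.specializes_iff.1 hw')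
  by_contra hne
  have hlt : P'.asIdeal < P.asIdeal := lt_of_le_of_ne hle fun h => hne (congrArg j.base (PrimeSpectrum.ext h))
  have hlt' : P.asIdeal < IsLocalRing.maximalIdeal O :=
    lt_of_le_of_ne (IsLocalRing.le_maximalIdeal P.isPrime.ne_top) fun h => hwz
      ((congrArg j.base (PrimeSpectrum.ext h : P = IsLocalRing.closedPoint O)).trans hjc)
  have h1 : P.asIdeal.height < 1 := lt_of_lt_of_le (Ideal.height_strict_mono_of_isPrime hlt') hh
  have h2 : P'.asIdeal.height < P.asIdeal.height := Ideal.height_strict_mono_of_isPrime hlt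
  rw [ENat.lt_one_iff_eq_zero.1 h1] at h2
  exact not_lt_zero' h2

/-- The image in a model of the generic point of an open subgroup of a geometric fibre is generic in its fibre. -/
theorem eq_of_specializes_fibre {S : Scheme.{u}} {N : Over S} {K : Type u} [Field K] {s : S}
    (ξ : Spec (CommRingCat.of K) ⟶ S) (hξ : ξ.base (IsLocalRing.closedPoint K) = s) {G₀ : Scheme.{u}}
    (i : G₀ ⟶ pullback N.hom ξ) [IsOpenImmersion i] (y₀ : G₀) (hy₀ : ∀ y, y₀ ⤳ y)
    (w : N.left) (hw : w ⤳ (pullback.fst N.hom ξ).base (i.base y₀)) (hws : N.hom.base w = s) :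
    w = (pullback.fst N.hom ξ).base (i.base y₀) := by
  obtain ⟨ε, hε⟩ := WeightLib.exists_eq_specMap_fromSpecResidueField ξ (x := s) hξ
  let b := S.fromSpecResidueField s
  let p := pullback.fst N.hom b
  let q : pullback N.hom ξ ⟶ pullback N.hom b := pullback.lift (pullback.fst _ _) (pullback.snd _ _ ≫ Spec.map ε)
    (by rw [pullback.condition, Category.assoc, hε])
  have hq : IsPullback q (pullback.snd N.hom ξ) (pullback.snd N.hom b) (Spec.map ε) := by
    refine IsPullback.of_right ?_ (pullback.lift_snd _ _ _) (IsPullback.of_hasPullback N.hom b)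
    rw [pullback.lift_fst, hε]
    exact IsPullback.of_hasPullback N.hom ξ
  haveI : Flat (Spec.map ε) := by
    refine (HasRingHomProperty.Spec_iff (P := @Flat)).2 ?_
    letI := ε.hom.toAlgebra
    exact Module.Flat.of_free
  haveI : Flat q := MorphismProperty.of_isPullback hq.flip inferInstance
  obtain ⟨w₁, hw₁, -⟩ := NeronQFLib.exists_preimage (IsPullback.of_hasPullback N.hom b) w
    (IsLocalRing.closedPoint (S.residueField s)) (hws.trans (Scheme.fromSpecResidueField_apply s _).symm)
  have hqp : ∀ x, p.base (q.base x) = (pullback.fst N.hom ξ).base x := fun x => by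
    rw [← Scheme.Hom.comp_apply]; exact congrArg (fun m : pullback N.hom ξ ⟶ N.left => m.base x) (pullback.lift_fst _ _ _)
  have hsp : w₁ ⤳ q.base (i.base y₀) := p.isEmbedding.toIsInducing.specializes_iff.1 (by rwa [hw₁, hqp])
  obtain ⟨y, hy, hqy⟩ := Flat.generalizingMap q hsp
  obtain ⟨y', rfl⟩ : y ∈ Set.range i.base := hy.mem_open i.opensRange.2 ⟨y₀, rfl⟩
  have : y' = y₀ := ((i.isOpenEmbedding.isInducing.specializes_iff.1 hy).antisymm (hy₀ y')).eq
  rw [← hw₁, ← hqy, this, hqp]

end UnipKerLib
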