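import Groth.Agent.UnipKerLib.Nhd
import Groth.Agent.S3207

/-!
# Isogenies which are monomorphisms at the generic point are open immersions nearby
-/

set_option autoImplicit false
set_option backward.isDefEq.respectTransparency false
set_option maxHeartbeats 1000000

universe u

open CategoryTheory CategoryTheory.Limits AlgebraicGeometry MonoidalCategory CartesianMonoidalCategory
open scoped MonObj
open Groth.Agent

namespace UnipKerLib

/-- Base change along a composite is base change in two steps. -/
theorem isPullback_map_comp {S T T' : Scheme.{u}} (g : T' ⟶ T) (ξ : T ⟶ S) (ξ' : T' ⟶ S) (hξ : g ≫ ξ = ξ')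
    {X Y : Over S} (f : X ⟶ Y) :
    ∃ (lX : ((Over.pullback ξ').obj X).left ⟶ ((Over.pullback ξ).obj X).left)
      (lY : ((Over.pullback ξ').obj Y).left ⟶ ((Over.pullback ξ).obj Y).left),
      IsPullback lX ((Over.pullback ξ').map f).left ((Over.pullback ξ).map f).left lY ∧
      IsPullback lY (pullback.snd Y.hom ξ') (pullback.snd Y.hom ξ) g := by
  subst hξ
  let lY : pullback Y.hom (g ≫ ξ) ⟶ pullback Y.hom ξ :=
    pullback.lift (pullback.fst _ _) (pullback.snd _ _ ≫ g) (by rw [pullback.condition, Category.assoc])
  let lX : pullback X.hom (g ≫ ξ) ⟶ pullback X.hom ξ :=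
    pullback.lift (pullback.fst _ _) (pullback.snd _ _ ≫ g) (by rw [pullback.condition, Category.assoc])
  refine ⟨lX, lY, ?_, ?_⟩
  · refine IsPullback.of_right ?_ ?_ (NeronQFLib.isPullback_map ξ f)
    · show IsPullback (lX ≫ pullback.fst X.hom ξ) _ f.left (lY ≫ pullback.fst Y.hom ξ)
      rw [pullback.lift_fst, pullback.lift_fst]
      exact NeronQFLib.isPullback_map (g ≫ ξ) f
    · have h1 := pullback.lift_fst (f := Y.hom) (g := ξ) (pullback.fst X.hom ξ ≫ f.left) (pullback.snd X.hom ξ)
        (by rw [Category.assoc, Over.w]; exact pullback.condition)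
      refine pullback.hom_ext ?_ ?_
      · simp [lX, lY]
      · simp [lX, lY]
  · refine IsPullback.of_right ?_ (pullback.lift_snd _ _ _) (IsPullback.of_hasPullback Y.hom ξ)
    rw [pullback.lift_fst]
    exact IsPullback.of_hasPullback Y.hom (g ≫ ξ)

variable {S : Scheme.{u}} {G H : Over S} [GrpObj G] [IsCommMonObj G] [Flat G.hom] [IsSeparated G.hom]
    [LocallyOfFinitePresentation G.hom] [QuasiCompact G.hom] [GrpObj H] [Smooth H.hom] [QuasiSeparated H.hom]
    (u : G ⟶ H) [IsMonHom u]

/-- An isogeny which is a monomorphism is an isomorphism. -/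
theorem isIso_fibre {t : S} (hiso : SGA7.IsIsogenyOver (SGA7.fibreHom t u)) [Mono (SGA7.fibreHom t u)] :
    IsIso (SGA7.fibreHom t u).left := by
  let F := Over.pullback (S.fromSpecResidueField t)
  letI : GrpObj (F.obj G) := Functor.grpObjObj
  letI : GrpObj (F.obj H) := Functor.grpObjObj
  haveI := AbSchLib.isMonHom_pullback_map (S.fromSpecResidueField t) u
  haveI : LocallyOfFinitePresentation (F.obj G).hom :=
    inferInstanceAs (LocallyOfFinitePresentation (pullback.snd G.hom _))
  haveI : LocallyOfFiniteType (F.obj H).hom := inferInstanceAs (LocallyOfFiniteType (pullback.snd H.hom _))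
  haveI : Flat (F.obj G).hom := inferInstanceAs (Flat (pullback.snd G.hom _))
  haveI : Smooth (F.obj H).hom := inferInstanceAs (Smooth (pullback.snd H.hom _))
  haveI : GeometricallyReduced (F.obj H).hom := AbSchLib.geometricallyReduced_of_smooth _
  haveI : Surjective (F.map u).left := hiso.1
  haveI : Flat (F.map u).left := AbSchLib.flat_of_surjective (F.map u)
  haveI : LocallyOfFinitePresentation ((F.map u).left ≫ (F.obj H).hom) := by rw [Over.w]; infer_instance
  haveI : LocallyOfFinitePresentation (F.map u).left := Groth.Agent.S12442.lfp_of_comp_lft _ (F.obj H).hom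
  haveI : Mono (F.map u) := ‹Mono (SGA7.fibreHom t u)›
  haveI : Mono (F.map u).left := inferInstance
  haveI := IsOpenImmersion.of_flat_of_mono (F.map u).left
  haveI : Epi (F.map u).left.base := (TopCat.epi_iff_surjective _).2 (F.map u).left.surjective
  exact (isIso_iff_isOpenImmersion_and_epi_base _).2 ⟨inferInstance, inferInstance⟩

/-- Over an irreducible base mapping its generic point to `t`, flatness and quasi-finiteness give an open immersion. -/
theorem isOpenImmersion_map {t : S} (hiso : SGA7.IsIsogenyOver (SGA7.fibreHom t u)) [Mono (SGA7.fibreHom t u)]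
    {T : Scheme.{u}} (ξ : T ⟶ S) (η₀ : T) (hη : ∀ x, η₀ ⤳ x) (hη₀ : ξ.base η₀ = t)
    [Flat ((Over.pullback ξ).map u).left] [LocallyQuasiFinite ((Over.pullback ξ).map u).left] :
    IsOpenImmersion ((Over.pullback ξ).map u).left := by
  let P := Over.pullback ξ
  haveI : IsSeparated (P.obj G).hom := inferInstanceAs (IsSeparated (pullback.snd G.hom ξ))
  haveI : QuasiCompact (P.obj G).hom := inferInstanceAs (QuasiCompact (pullback.snd G.hom ξ))
  haveI : LocallyOfFinitePresentation (P.obj G).hom :=
    inferInstanceAs (LocallyOfFinitePresentation (pullback.snd G.hom ξ))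
  haveI : QuasiSeparated (P.obj H).hom := inferInstanceAs (QuasiSeparated (pullback.snd H.hom ξ))
  haveI : LocallyOfFiniteType (P.obj H).hom := inferInstanceAs (LocallyOfFiniteType (pullback.snd H.hom ξ))
  haveI : Smooth (P.obj H).hom := inferInstanceAs (Smooth (pullback.snd H.hom ξ))
  let v := (P.map u).left
  haveI : LocallyOfFinitePresentation (v ≫ (P.obj H).hom) := by rw [Over.w]; infer_instance
  haveI : LocallyOfFinitePresentation v := Groth.Agent.S12442.lfp_of_comp_lft v (P.obj H).hom
  haveI : IsSeparated (v ≫ (P.obj H).hom) := by rw [Over.w]; infer_instance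
  haveI : IsSeparated v := IsSeparated.of_comp v (P.obj H).hom
  haveI : QuasiCompact (v ≫ (P.obj H).hom) := by rw [Over.w]; infer_instance
  haveI : QuasiCompact v := QuasiCompact.of_comp v (P.obj H).hom
  refine Groth.Agent.S3207.result v fun h hmax => Or.inr ?_
  have hh : (P.obj H).hom.base h = η₀ := by
    obtain ⟨h', hh', e⟩ := Flat.generalizingMap (P.obj H).hom (hη ((P.obj H).hom.base h))
    rw [← hmax h' hh', e]
  let j := (P.obj H).left.fromSpecResidueField h
  let k := j ≫ pullback.fst H.hom ξ
  obtain ⟨ε, hε⟩ := WeightLib.exists_eq_specMap_fromSpecResidueField (Ω := (P.obj H).left.residueField h)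
    (k ≫ H.hom) (x := t) (by
      show (k ≫ H.hom).base _ = t
      rw [show k ≫ H.hom = j ≫ pullback.snd H.hom ξ ≫ ξ by simp [k, pullback.condition],
        Scheme.Hom.comp_apply, Scheme.Hom.comp_apply]
      rw [show j.base _ = h from Scheme.fromSpecResidueField_apply h _]
      exact (congrArg ξ.base hh).trans hη₀)
  let b := S.fromSpecResidueField t
  let k₁ : Spec ((P.obj H).left.residueField h) ⟶ pullback H.hom b := pullback.lift k (Spec.map ε) hε.symm
  haveI : IsIso ((Over.pullback b).map u).left := isIso_fibre u hiso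
  have big1 := (IsPullback.of_hasPullback v j).paste_horiz (NeronQFLib.isPullback_map ξ u)
  have big2 := (IsPullback.of_hasPullback ((Over.pullback b).map u).left k₁).paste_horiz (NeronQFLib.isPullback_map b u)
  rw [show k₁ ≫ pullback.fst H.hom b = k from pullback.lift_fst _ _ _] at big2
  rw [← IsPullback.isoIsPullback_hom_snd _ _ big1 big2]
  infer_instance

/-- The base change along a map into a neighbourhood on which the homomorphism is flat and quasi-finite. -/
theorem flat_lqf_map {U : S.Opens} (hU : ∀ g : G.left, G.hom.base g ∈ U →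
      (u.left.stalkMap g).hom.Flat ∧ FlatMor.fibreDimAt u.left g = 0) :
    Flat ((Over.pullback U.ι).map u).left ∧ LocallyQuasiFinite ((Over.pullback U.ι).map u).left := by
  haveI : LocallyOfFiniteType (u.left ≫ H.hom) := by rw [Over.w]; infer_instance
  haveI : LocallyOfFiniteType u.left := locallyOfFiniteType_of_comp u.left H.hom
  have sq := NeronQFLib.isPullback_map U.ι u
  have hmem : ∀ z, G.hom.base ((pullback.fst G.hom U.ι).base z) ∈ U := fun z => by
    rw [← Scheme.Hom.comp_apply, pullback.condition, Scheme.Hom.comp_apply]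
    exact ((pullback.snd G.hom U.ι).base z).2
  haveI : LocallyOfFiniteType ((Over.pullback U.ι).map u).left := MorphismProperty.of_isPullback sq inferInstance
  refine ⟨(Flat.iff_flat_stalkMap _).2 fun z => ?_, (AlgSpLib.lqf_iff_fibreDimAt_eq_zero _).2 fun z => ?_⟩
  · exact (Groth.Agent.S5223.result sq z).2 (hU _ (hmem z)).1
  · rw [FibDimLib.fibreDimAt_baseChange sq z]
    exact (hU _ (hmem z)).2

end UnipKerLib
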