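import Groth.Agent.AVAmpleLib.Translate
import Groth.Agent.UnipKerLib.NoGa

/-!
# Homomorphisms from irreducible groups land in open subgroups
-/

set_option autoImplicit false
set_option backward.isDefEq.respectTransparency false

universe u

open CategoryTheory CategoryTheory.Limits AlgebraicGeometry MonoidalCategory CartesianMonoidalCategory MonObj
open Groth.Agent

attribute [-instance] CategoryTheory.Hom.commGroup

namespace UnipKerLib

/-- The additive group over a field is irreducible. -/
theorem irreducibleSpace_ga (k : Type u) [Field k] : IrreducibleSpace ↥(Red.Ga (Spec (CommRingCat.of k))).left := by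
  obtain ⟨v, hv⟩ := SemiAbLib.exists_fromFn k (Red.gaFn (𝟙 (Red.Ga (Spec (CommRingCat.of k)))))
  have h : v ≫ SemiAbLib.toGa k = 𝟙 _ := GaPts.gaFn_injective (by
    show Red.gaFn _ = Red.gaFn _
    rw [GaPts.gaFn_comp, SemiAbLib.gaFn_toGa, hv])
  haveI : IsDomain (SymmetricAlgebra k k) :=
    (SymmetricAlgebra.equivMvPolynomial (Module.Free.chooseBasis k k)).toMulEquiv.isDomain _
  have hu : IsIrreducible (Set.univ : Set (PrimeSpectrum (SymmetricAlgebra k k))) := IrreducibleSpace.isIrreducible_univ _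
  have hs : Function.Surjective (SemiAbLib.toGa k).left.base := fun x =>
    ⟨v.left.base x, congr($(congrArg CommaMorphism.left h).base x)⟩
  have := hu.image (SemiAbLib.toGa k).left.base (SemiAbLib.toGa k).left.base.hom.continuous.continuousOn
  rw [Set.image_univ, hs.range_eq] at this
  exact (irreducibleSpace_def _).2 this

/-- A homomorphism from an irreducible group factors through open subgroups. -/
theorem exists_lift_openSub {k : Type u} [Field k] [IsAlgClosed k] {A X Y : Over (Spec (CommRingCat.of k))}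
    [GrpObj A] [GrpObj X] [GrpObj Y] [LocallyOfFiniteType A.hom] [IrreducibleSpace A.left]
    (j : A ⟶ Y) [IsMonHom j] (v : X ⟶ Y) [IsMonHom v] [IsOpenImmersion v.left] :
    ∃ l : A ⟶ X, l ≫ v = j := by
  haveI : JacobsonSpace A.left := LocallyOfFiniteType.jacobsonSpace A.hom
  haveI : Subsingleton (𝟙_ (Over (Spec (CommRingCat.of k)))).left := inferInstanceAs (Subsingleton (PrimeSpectrum k))
  let V : A.left.Opens := j.left ⁻¹ᵁ v.left.opensRange
  have hlift : ∀ b, AVAmpleLib.pt b ∈ V → ∃ c, c ≫ v = b ≫ j := fun b hb => by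
    refine ⟨Over.homMk (IsOpenImmersion.lift v.left (b ≫ j).left ?_) ?_, Over.OverMorphism.ext (IsOpenImmersion.lift_fac _ _ _)⟩
    · rintro _ ⟨q, rfl⟩
      rw [Subsingleton.elim q (IsLocalRing.closedPoint k)]
      exact hb
    · rw [← Over.w v, IsOpenImmersion.lift_fac_assoc, Over.w]
  have hV : (V : Set A.left).Nonempty := ⟨(η[A] : 𝟙_ _ ⟶ A).left.base (IsLocalRing.closedPoint k),
    (η[X] : 𝟙_ _ ⟶ X).left.base (IsLocalRing.closedPoint k), by
      rw [← Scheme.Hom.comp_apply, ← Scheme.Hom.comp_apply, ← Over.comp_left, ← Over.comp_left, IsMonHom.one_hom,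
        IsMonHom.one_hom]⟩
  have htop : ∀ x ∈ closedPoints A.left, x ∈ V := by
    intro x hx
    obtain ⟨z, rfl⟩ := AVAmpleLib.exists_pt_eq x hx
    obtain ⟨y, hy⟩ := nonempty_preirreducible_inter V.2 ((AVAmpleLib.tL z).left ⁻¹ᵁ V).2 hV
      (AVAmpleLib.preimage_nonempty (AVAmpleLib.tL z) hV)
    obtain ⟨a, ha, hza⟩ := AVAmpleLib.exists_pt_mem (U := V ⊓ ((AVAmpleLib.tL z).left ⁻¹ᵁ V)) ⟨y, hy⟩
    have hza' : AVAmpleLib.pt (z * a) ∈ V := by
      rw [← AVAmpleLib.point_tL a z, AVAmpleLib.pt_comp]; exact hza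
    obtain ⟨c, hc⟩ := hlift a ha
    obtain ⟨d, hd⟩ := hlift (z * a) hza'
    have hz : (d * c⁻¹) ≫ v = z ≫ j := by
      rw [MonObj.mul_comp, GrpObj.inv_comp, hd, hc, MonObj.mul_comp, _root_.mul_assoc, mul_inv_cancel, _root_.mul_one]
    refine ⟨(d * c⁻¹).left.base (IsLocalRing.closedPoint k), ?_⟩
    rw [← Scheme.Hom.comp_apply, ← Over.comp_left, hz]
    rfl
  have huniv : ∀ x, x ∈ V := fun x => by
    by_contra hx
    obtain ⟨y, hy, hy'⟩ := nonempty_inter_closedPoints (show ((V : Set A.left)ᶜ).Nonempty from ⟨x, hx⟩)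
      V.2.isClosed_compl.isLocallyClosed
    exact hy (htop y hy')
  refine ⟨Over.homMk (IsOpenImmersion.lift v.left j.left (by rintro _ ⟨a, rfl⟩; exact huniv a)) ?_,
    Over.OverMorphism.ext (IsOpenImmersion.lift_fac _ _ _)⟩
  rw [← Over.w v, IsOpenImmersion.lift_fac_assoc, Over.w]

/-- Open subgroups detect additive subgroups. -/
theorem noGa_openSub {k : Type u} [Field k] [IsAlgClosed k] {X Y : Over (Spec (CommRingCat.of k))}
    [GrpObj X] [GrpObj Y] (v : X ⟶ Y) [IsMonHom v] [IsOpenImmersion v.left]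
    (h : ∀ j : Red.Ga (Spec (CommRingCat.of k)) ⟶ X, IsMonHom j → IsClosedImmersion j.left → False)
    (j : Red.Ga (Spec (CommRingCat.of k)) ⟶ Y) (hj : IsMonHom j) (hjc : IsClosedImmersion j.left) : False := by
  haveI := hj; haveI := hjc
  haveI := irreducibleSpace_ga k
  haveI : LocallyOfFiniteType (Red.Ga (Spec (CommRingCat.of k))).hom := by
    haveI : LocallyOfFiniteType Red.GaZ.{u}.hom := by
      haveI : Algebra.FiniteType (ULift.{u} ℤ) (SymmetricAlgebra (ULift.{u} ℤ) (ULift.{u} ℤ)) :=
        Algebra.FiniteType.equiv inferInstance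
          (SymmetricAlgebra.equivMvPolynomial (Module.Basis.singleton Unit (ULift.{u} ℤ))).symm
      exact (HasRingHomProperty.Spec_iff (P := @LocallyOfFiniteType)).2 (RingHom.finiteType_algebraMap.2 this)
    exact MorphismProperty.pullback_snd (P := @LocallyOfFiniteType) _ _ inferInstance
  obtain ⟨l, rfl⟩ := exists_lift_openSub j v
  haveI : Mono v := Over.mono_of_mono_left v
  haveI : IsMonHom l := by
    refine { one_hom := ?_, mul_hom := ?_ }
    · rw [← cancel_mono v, Category.assoc, IsMonHom.one_hom (l ≫ v), IsMonHom.one_hom]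
    · rw [← cancel_mono v, Category.assoc, Category.assoc, IsMonHom.mul_hom (l ≫ v), IsMonHom.mul_hom,
        tensorHom_comp_tensorHom_assoc]
  haveI : IsClosedImmersion (l.left ≫ v.left) := hjc
  exact h l inferInstance (IsClosedImmersion.of_comp l.left v.left)

end UnipKerLib
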