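import Groth.Agent.UnipKerLib.PowFibre
import Groth.Agent.WeightLib.EtaleQF
import Groth.Agent.UnipKerLib.OpenSub

/-!
# Quasi-finiteness of power maps of possibly disconnected groups
-/

set_option autoImplicit false
set_option backward.isDefEq.respectTransparency false
set_option maxHeartbeats 1000000

universe u

open CategoryTheory CategoryTheory.Limits AlgebraicGeometry MonoidalCategory CartesianMonoidalCategory MonObj
open Groth.Agent

attribute [-instance] CategoryTheory.Hom.commGroup

namespace UnipKerLib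

variable {k : Type u} [Field k] [IsAlgClosed k] (G : Over (Spec (CommRingCat.of k))) [GrpObj G] [IsCommMonObj G]
  [Smooth G.hom]

/-- The identity component as an open and closed subgroup. -/
theorem exists_component :
    ∃ (G₀ : Over (Spec (CommRingCat.of k))) (_ : GrpObj G₀) (i : G₀ ⟶ G), IsMonHom i ∧ IsClosedImmersion i.left ∧
      IsOpenImmersion i.left ∧ IsCommMonObj G₀ ∧ Smooth G₀.hom ∧ QuasiCompact G₀.hom ∧ ConnectedSpace G₀.left := by
  obtain ⟨G₀, _, i, hi, hic, hif, -, hgi, hcs⟩ := GrpField.exists_identity_component (G := G)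
  haveI := hi; haveI := hic; haveI := hif; haveI := hgi; haveI := hcs
  haveI : Mono i := Over.mono_of_mono_left i
  haveI : IsLocallyNoetherian G.left := LocallyOfFiniteType.isLocallyNoetherian G.hom
  haveI : LocallyOfFinitePresentation i.left := inferInstance
  haveI : IsOpenImmersion i.left := IsOpenImmersion.of_flat_of_mono i.left
  haveI : Smooth G₀.hom := by rw [← Over.w i]; infer_instance
  haveI : Subsingleton ↥(Spec (CommRingCat.of k)) := inferInstanceAs (Subsingleton (PrimeSpectrum k))
  haveI : IrreducibleSpace G₀.left := GeometricallyIrreducible.irreducibleSpace_of_subsingleton G₀.hom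
  exact ⟨G₀, inferInstance, i, hi, hic, inferInstance, AntiAffLib.CommCat.isComm_of_mono i, inferInstance,
    HasAffineProperty.iff_of_isAffine.2 (inferInstance : CompactSpace G₀.left), inferInstance⟩

/-- Quasi-finiteness of a power map in terms of additive subgroups. -/
theorem lqf_pow_iff (m : ℕ) (hm : m ≠ 0) :
    LocallyQuasiFinite ((𝟙 G : G ⟶ G) ^ m).left ↔
      ((m : k) ≠ 0 ∨ ∀ j : Red.Ga (Spec (CommRingCat.of k)) ⟶ G, IsMonHom j → IsClosedImmersion j.left → False) := by
  obtain ⟨G₀, _, i, hi, hic, hio, hc₀, hs₀, hq₀, hn₀⟩ := exists_component G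
  haveI := hi; haveI := hic; haveI := hio; haveI := hc₀; haveI := hs₀; haveI := hq₀; haveI := hn₀
  have hmon : ∀ (X : Over (Spec (CommRingCat.of k))) [GrpObj X] [IsCommMonObj X], IsMonHom ((𝟙 X : X ⟶ X) ^ m) := by
    intro X _ _
    rw [← zpow_natCast]; exact AbSchLib.isMonHom_zpow X (m : ℤ)
  have hsq : ((𝟙 G₀ : G₀ ⟶ G₀) ^ m).left ≫ i.left = i.left ≫ ((𝟙 G : G ⟶ G) ^ m).left := by
    rw [← Over.comp_left, ← Over.comp_left, MonObj.pow_comp, Category.id_comp, MonObj.comp_pow, Category.comp_id]
  constructor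
  · intro hq
    by_cases hmk : (m : k) = 0
    · refine Or.inr fun j hj hjc => ?_
      haveI := hj; haveI := hjc
      haveI : LocallyQuasiFinite (((𝟙 G₀ : G₀ ⟶ G₀) ^ m).left ≫ i.left) := by rw [hsq]; infer_instance
      haveI : LocallyQuasiFinite ((𝟙 G₀ : G₀ ⟶ G₀) ^ m).left :=
        LocallyQuasiFinite.of_comp ((𝟙 G₀ : G₀ ⟶ G₀) ^ m).left i.left
      exact noGa_openSub i (noGa_of_pow G₀ m hmk) j hj hjc
    · exact Or.inl hmk
  · rintro (hmk | h)
    · haveI := WeilResLib.etale_pow G m hmk
      exact WeightLib.locallyQuasiFinite_of_etale _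
    · have hS : SemiAbLib.IsSemiAb G₀ := SemiAbLib.isSemiAb_of_no_ga fun j hj hjc => by
        haveI := hj; haveI := hjc
        exact h (j ≫ i) inferInstance (by rw [Over.comp_left]; infer_instance)
      haveI := hmon G₀
      haveI := hmon G
      haveI := ((endo_spec G₀ ((𝟙 G₀ : G₀ ⟶ G₀) ^ m)).2.1 (hS.pow_spec hm).2.1).2
      let x := (η[G₀] : 𝟙_ _ ⟶ G₀).left.base (IsLocalRing.closedPoint k)
      refine GrpHom.lqf_of_quasiFiniteAt ((𝟙 G : G ⟶ G) ^ m) (i.left x) ?_
      rw [← Scheme.Hom.quasiFiniteAt_comp_iff_of_isOpenImmersion, ← hsq, Scheme.Hom.quasiFiniteAt_comp_iff]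
      exact Scheme.Hom.quasiFiniteAt _ x

end UnipKerLib
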