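import Groth.Agent.UnipKerLib.Torsion
import Groth.Agent.SemiAbLib.Basic
import Groth.Agent.GrpFieldLib.Identity
import Groth.Agent.AVAmpleLib.ReducedSub
import Groth.Agent.AVAmpleLib.HomRank

/-!
# Kernels without additive subgroups specialize to finite kernels
-/

set_option autoImplicit false
set_option backward.isDefEq.respectTransparency false
set_option maxHeartbeats 1000000

universe u

open CategoryTheory CategoryTheory.Limits AlgebraicGeometry MonoidalCategory CartesianMonoidalCategory
open scoped MonObj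
open Groth.Agent

namespace UnipKerLib

/-- A group without additive subgroups whose prime-to-characteristic torsion has bounded exponent has an
isolated unit. -/
theorem isOpen_unitPt {k : Type u} [Field k] [IsAlgClosed k] (N : Over (Spec (CommRingCat.of k))) [GrpObj N]
    [IsCommMonObj N] [LocallyOfFiniteType N.hom]
    (hga : ∀ j : Red.Ga (Spec (CommRingCat.of k)) ⟶ N, IsMonHom j → IsClosedImmersion j.left → False)
    (d : ℕ) (hd0 : d ≠ 0)
    (hd : ∀ (a : 𝟙_ (Over (Spec (CommRingCat.of k))) ⟶ N) (M : ℕ), (M : k) ≠ 0 → a ^ M = 1 → a ^ d = 1) :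
    IsOpen ({GrpField.unitPt N} : Set N.left) := by
  obtain ⟨N₀, _, i, hi, hic, hif, hir, hgi, hcs⟩ := GrpField.exists_identity_component (G := N)
  haveI := hi; haveI := hic; haveI := hif; haveI := hgi; haveI := hcs
  haveI : LocallyOfFiniteType N₀.hom := by rw [← Over.w i]; infer_instance
  obtain ⟨B, _, j, hj, hjc, hjr, hjl, hjrange⟩ := AVAmpleLib.exists_reduced_subgroup (A := N₀) Set.univ trivial
    (fun _ _ _ _ => trivial) (fun _ _ => trivial)
  haveI := hj; haveI := hjc; haveI := hjr; haveI := hjl
  haveI : JacobsonSpace N₀.left := LocallyOfFiniteType.jacobsonSpace N₀.hom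
  have hsurj : Set.range j.left.base = Set.univ := by
    rw [hjrange, ← dense_iff_closure_eq]
    refine Dense.mono (fun y hy => ?_) (dense_iff_closure_eq.mpr (closure_closedPoints (X := N₀.left)))
    refine ⟨Over.homMk (pointOfClosedPoint N₀.hom y hy) (pointOfClosedPoint_comp _ _ _), trivial, ?_⟩
    simp [AVAmpleLib.pt]
  haveI : Subsingleton ↥(Spec (CommRingCat.of k)) := inferInstanceAs (Subsingleton (PrimeSpectrum k))
  haveI : IrreducibleSpace N₀.left := GeometricallyIrreducible.irreducibleSpace_of_subsingleton N₀.hom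
  haveI : Surjective j.left := ⟨Set.range_eq_univ.1 hsurj⟩
  haveI : QuasiCompact N₀.hom := HasAffineProperty.iff_of_isAffine.2 (inferInstance : CompactSpace N₀.left)
  haveI : QuasiCompact B.hom := by rw [← Over.w j]; infer_instance
  haveI : Smooth B.hom := GrpSchLib.smooth_of_isAlgClosed_of_isReduced B
  haveI : ConnectedSpace B.left := by
    let e : B.left ≃ₜ N₀.left :=
      Equiv.toHomeomorphOfContinuousClosed (Equiv.ofBijective j.left.base
        ⟨j.left.isEmbedding.injective, Set.range_eq_univ.1 hsurj⟩) j.left.continuous j.left.isClosedMap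
    exact e.symm.surjective.connectedSpace e.symm.continuous
  let w : B ⟶ N := j ≫ i
  haveI : Mono w.left := by
    show Mono (j.left ≫ i.left); infer_instance
  haveI : Mono w := Over.mono_of_mono_left w
  haveI : IsCommMonObj B := AntiAffLib.CommCat.isComm_of_mono w
  have hB : SemiAbLib.IsSemiAb B := SemiAbLib.isSemiAb_of_no_ga fun m hm hmc => by
    haveI := hm; haveI := hmc
    exact hga (m ≫ w) inferInstance (by
      show IsClosedImmersion (m.left ≫ j.left ≫ i.left); infer_instance)
  obtain ⟨hpm, hps, -⟩ := hB.pow_spec hd0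
  haveI := hpm; haveI := hps
  haveI : IsSeparated B.hom := GrpField.isSeparated_grp (G := B)
  obtain ⟨l, hl, hlk⟩ := AVAmpleLib.exists_prime_ne_zero k
  haveI := hl
  have hone : ((𝟙 B) ^ d : B ⟶ B) = 1 := hB.eq_one_of_torsion l hlk _ fun a ⟨m, ha⟩ => by
    rw [← cancel_mono w, MonObj.comp_pow, Category.comp_id, MonObj.pow_comp, MonObj.one_comp]
    exact hd _ (l ^ m) (by push_cast; exact pow_ne_zero _ hlk) (by rw [← MonObj.pow_comp, ha, MonObj.one_comp])
  have hBpt : ∀ b : B.left, b = GrpField.unitPt B := fun b => by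
    obtain ⟨b', rfl⟩ := ((𝟙 B) ^ d : B ⟶ B).left.surjective b
    rw [hone, Hom.one_def, Over.comp_left, Scheme.Hom.comp_apply]
    show (η[B] : 𝟙_ _ ⟶ B).left _ = (η[B] : 𝟙_ _ ⟶ B).left _
    congr 1
    exact Subsingleton.elim (α := ↥(Spec (CommRingCat.of k))) _ _
  have hrange : Set.range i.left.base = {GrpField.unitPt N} := by
    refine Set.eq_singleton_iff_unique_mem.2 ⟨hir ▸ GrpField.unitPt_mem_Z0 N, ?_⟩
    rintro _ ⟨y, rfl⟩
    obtain ⟨b, rfl⟩ := Set.range_eq_univ.1 hsurj y
    rw [hBpt b]
    show ((η[B] : 𝟙_ _ ⟶ B).left ≫ j.left ≫ i.left).base (IsLocalRing.closedPoint k) = _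
    rw [← Over.comp_left, ← Over.comp_left, show (η[B] : 𝟙_ _ ⟶ B) ≫ j ≫ i = η[N] from by
      rw [IsMonHom.one_hom_assoc, IsMonHom.one_hom]]
    rfl
  haveI : IsLocallyNoetherian N.left := LocallyOfFiniteType.isLocallyNoetherian N.hom
  haveI : LocallyOfFinitePresentation i.left := inferInstance
  rw [← hrange]
  exact i.left.isOpenMap.isOpen_range

variable {S : Scheme.{u}} {G H : Over S} [GrpObj G] [IsCommMonObj G] [Flat G.hom] [IsSeparated G.hom]
    [LocallyOfFinitePresentation G.hom] [GrpObj H] [LocallyOfFiniteType H.hom] (u : G ⟶ H) [IsMonHom u]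

/-- If the kernel over a generization is killed by a positive integer and the geometric fibre has no additive
subgroup, the homomorphism is quasi-finite on the fibre. -/
theorem fibreDimAt_eq_zero_of_kill {s t : S} (hts : t ⤳ s) (hs : SGA7.FibreUnipotentRankZero s G) (d : ℕ) (hd0 : d ≠ 0)
    (hd : ∀ (L : Type u) [Field L] (c : Spec (CommRingCat.of L) ⟶ Spec (S.residueField t))
      (x : Over.mk (c ≫ S.fromSpecResidueField t) ⟶ G), x ≫ u = 1 → x ^ d = 1)
    (g : G.left) (hg : G.hom.base g = s) : FlatMor.fibreDimAt u.left g = 0 := by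
  let K := AlgebraicClosure (S.residueField s)
  let ξ := Red.geomPt s
  let P := Over.pullback ξ
  letI : GrpObj (P.obj G) := Functor.grpObjObj
  letI : GrpObj (P.obj H) := Functor.grpObjObj
  haveI : IsCommMonObj (P.obj G) := Functor.isCommMonObj_obj (F := P)
  haveI := AbSchLib.isMonHom_pullback_map ξ u
  haveI : LocallyOfFiniteType (P.obj G).hom := inferInstanceAs (LocallyOfFiniteType (pullback.snd G.hom ξ))
  haveI : LocallyOfFiniteType (P.obj H).hom := inferInstanceAs (LocallyOfFiniteType (pullback.snd H.hom ξ))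
  haveI : LocallyOfFiniteType (u.left ≫ H.hom) := by rw [Over.w]; infer_instance
  haveI : LocallyOfFiniteType u.left := locallyOfFiniteType_of_comp u.left H.hom
  haveI := GrpHom.lft_left (P.map u)
  obtain ⟨N, _, i, hi, hic, hker, -⟩ := AntiAffLib.exists_kernel (P.map u)
  haveI := hi; haveI := hic
  haveI : Mono i := Over.mono_of_mono_left i
  haveI : IsCommMonObj N := AntiAffLib.CommCat.isComm_of_mono i
  haveI : LocallyOfFiniteType N.hom := by rw [← Over.w i]; infer_instance
  have hiu : i ≫ P.map u = 1 := NeronQFLib.kernel_comp _ i hker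
  -- prime-to-characteristic torsion of the kernel is killed by d
  have htors : ∀ (a : 𝟙_ (Over (Spec (CommRingCat.of K))) ⟶ N) (M : ℕ), (M : K) ≠ 0 → a ^ M = 1 → a ^ d = 1 := by
    intro a M hM haM
    let y : 𝟙_ (Over (Spec (CommRingCat.of K))) ⟶ P.obj G := a ≫ i
    let adj := Over.mapPullbackAdj ξ
    let x₀ := (adj.homEquiv _ _).symm y
    have hx₀u : x₀ ≫ u = 1 := by
      rw [← Adjunction.homEquiv_naturality_right_symm, show y ≫ P.map u = 1 from by
        rw [Category.assoc, hiu, MonObj.comp_one], Equiv.symm_apply_eq]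
      rw [Adjunction.homEquiv_unit, Functor.map_one, MonObj.comp_one]
    have hpow : ∀ n : ℕ, (adj.homEquiv _ _).symm (y ^ n) = x₀ ^ n := by
      intro n
      rw [Equiv.symm_apply_eq, Adjunction.homEquiv_unit]
      have hm : ∀ m : ℕ, P.map (x₀ ^ m) = P.map x₀ ^ m := by
        intro m
        induction m with
        | zero => rw [pow_zero, pow_zero, Functor.map_one]
        | succ m ih => rw [pow_succ, pow_succ, Functor.map_mul, ih]
      rw [hm, MonObj.comp_pow, ← Adjunction.homEquiv_unit, Equiv.apply_symm_apply]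
    have hMs : (M : S.residueField s) ≠ 0 := fun h => hM (by
      rw [← map_natCast (algebraMap (S.residueField s) K), h, map_zero])
    have hxM : x₀ ^ M = 1 := by
      rw [← hpow, ← MonObj.pow_comp, haM, MonObj.one_comp, Equiv.symm_apply_eq, Adjunction.homEquiv_unit,
        Functor.map_one, MonObj.comp_one]
    let e : Over.mk (Spec.map (CommRingCat.ofHom (algebraMap (S.residueField s) K)) ≫ S.fromSpecResidueField s) ⟶
        (Over.map ξ).obj (𝟙_ (Over (Spec (CommRingCat.of K)))) :=
      Over.homMk (𝟙 _) (by simp [ξ, Red.geomPt]; rfl)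
    haveI : IsIso e.left := inferInstanceAs (IsIso (𝟙 _))
    have h := torsion_kernel_bound u hts d hd (e ≫ x₀) (by rw [Category.assoc, hx₀u, MonObj.comp_one]) M hMs
      (by rw [← MonObj.comp_pow, hxM, MonObj.comp_one])
    rw [← MonObj.comp_pow, ← MonObj.comp_one e] at h
    haveI : IsIso ((Over.forget _).map e) := ‹IsIso e.left›
    haveI : IsIso e := isIso_of_reflects_iso e (Over.forget _)
    have h' := (cancel_epi e).1 h
    rw [← hpow, Equiv.symm_apply_eq, Adjunction.homEquiv_unit, Functor.map_one, MonObj.comp_one,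
      ← MonObj.pow_comp] at h'
    rw [← cancel_mono i, h', MonObj.one_comp]
  have hga : ∀ j : Red.Ga (Spec (CommRingCat.of K)) ⟶ N, IsMonHom j → IsClosedImmersion j.left → False :=
    fun j hj hjc => by
      haveI := hj; haveI := hjc
      exact hs (j ≫ i) inferInstance (by show IsClosedImmersion (j.left ≫ i.left); infer_instance)
  have hopen := isOpen_unitPt N hga d hd0 htors
  -- the unit is quasi-finite
  let p := IsLocalRing.closedPoint K
  have sq : IsPullback i.left (toUnit N).left (P.map u).left (η[P.obj H] : 𝟙_ _ ⟶ P.obj H).left :=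
    hker.map (Over.forget _)
  haveI : LocallyOfFiniteType (toUnit N).left := by rw [Over.toUnit_left]; infer_instance
  have h0 : FlatMor.fibreDimAt (P.map u).left (i.left.base (GrpField.unitPt N)) = 0 := by
    rw [← FibDimLib.fibreDimAt_baseChange sq, Over.toUnit_left]
    refine (AlgSpLib.fibreDimAt_eq_localDim (X := N.left) N.hom (GrpField.unitPt N)).trans ?_
    exact le_antisymm (FibDimLib.localDim_le_zero_of_isOpen hopen) (FibDimLib.localDim_nonneg _)
  haveI : LocallyQuasiFinite (P.map u).left := GrpHom.lqf_of_quasiFiniteAt (P.map u) _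
    (Scheme.Hom.quasiFiniteAt_iff_isOpen_singleton_asFiber.2 ((AlgSpLib.fibreDimAt_eq_zero_iff _ _).1 h0))
  obtain ⟨g', hg', -⟩ := NeronQFLib.exists_preimage (IsPullback.of_hasPullback G.hom ξ) g p (by
    rw [hg]
    show s = (Spec.map (CommRingCat.ofHom (algebraMap (S.residueField s) K)) ≫ S.fromSpecResidueField s).base p
    rw [Scheme.Hom.comp_apply]
    exact (Scheme.fromSpecResidueField_apply s _).symm)
  rw [← hg', ← FibDimLib.fibreDimAt_baseChange (NeronQFLib.isPullback_map ξ u) g']
  exact (AlgSpLib.lqf_iff_fibreDimAt_eq_zero _).1 inferInstance g'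

/-- An isogeny of a generic fibre is killed by a positive integer on its kernel. -/
theorem exists_kill {t : S} (hker : ∀ (N : Over (Spec (S.residueField t))) (i : N ⟶ Red.bc (S.fromSpecResidueField t) G),
      AlgGrp.IsKernel i (SGA7.fibreHom t u) → IsFinite N.hom) :
    ∃ d : ℕ, d ≠ 0 ∧ ∀ (L : Type u) [Field L] (c : Spec (CommRingCat.of L) ⟶ Spec (S.residueField t))
      (x : Over.mk (c ≫ S.fromSpecResidueField t) ⟶ G), x ≫ u = 1 → x ^ d = 1 := by
  let b := S.fromSpecResidueField t
  let F := Over.pullback b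
  letI : GrpObj (F.obj G) := Functor.grpObjObj
  letI : GrpObj (F.obj H) := Functor.grpObjObj
  haveI : IsCommMonObj (F.obj G) := Functor.isCommMonObj_obj (F := F)
  haveI := AbSchLib.isMonHom_pullback_map b u
  have hk : AlgGrp.IsKernel (pullback.fst (F.map u) η[F.obj H]) (F.map u) := by
    have := IsPullback.of_hasPullback (F.map u) η[F.obj H]
    rw [toUnit_unique (pullback.snd (F.map u) η[F.obj H]) (toUnit _)] at this
    exact this
  haveI : IsFinite (pullback (F.map u) η[F.obj H]).hom := hker _ _ hk
  have hkill := NeronQFLib.kernel_pow_finrank (k := S.residueField t) (F.map u) _ hk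
  let i := pullback.fst (F.map u) η[F.obj H]
  refine ⟨(pullback (F.map u) η[F.obj H]).hom.finrank (IsLocalRing.closedPoint (S.residueField t)), ?_,
    fun L _ c x hx => ?_⟩
  · intro h0
    have hk1 : (F.map (η[G] : 𝟙_ _ ⟶ G)) ≫ F.map u = 1 := by
      rw [← Functor.map_comp, IsMonHom.one_hom, MonObj.one_eq_one, Functor.map_one]
    obtain ⟨z, -⟩ := NeronQFLib.exists_kernel_factor (F.map u) i hk _ hk1
    haveI : LocallyOfFinitePresentation (pullback (F.map u) η[F.obj H]).hom := inferInstance
    obtain ⟨p₀, -⟩ := NeronQFLib.exists_preimage (IsPullback.of_hasPullback (𝟙_ (Over S)).hom b)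
      (b.base (IsLocalRing.closedPoint (S.residueField t))) (IsLocalRing.closedPoint (S.residueField t)) rfl
    let zz := z.left.base p₀
    have := Scheme.Hom.one_le_finrank_map (pullback (F.map u) η[F.obj H]).hom zz
    rw [Subsingleton.elim ((pullback (F.map u) η[F.obj H]).hom.base zz) (IsLocalRing.closedPoint (S.residueField t)), h0] at this
    omega
  · let T : Over S := Over.mk (c ≫ b)
    have hm : ∀ m : ℕ, F.map (x ^ m) = F.map x ^ m := by
      intro m
      induction m with
      | zero => rw [pow_zero, pow_zero, Functor.map_one]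
      | succ m ih => rw [pow_succ, pow_succ, Functor.map_mul, ih]
    obtain ⟨z, hz⟩ := NeronQFLib.exists_kernel_factor (F.map u) i hk (F.map x)
      (by rw [← Functor.map_comp, hx, Functor.map_one])
    have h1 : F.map (x ^ ((pullback (F.map u) η[F.obj H]).hom.finrank (IsLocalRing.closedPoint (S.residueField t)))) =
        F.map 1 := by
      rw [hm, ← hz, ← MonObj.comp_pow, hkill, MonObj.comp_one, Functor.map_one]
    let δ : Spec (CommRingCat.of L) ⟶ (F.obj T).left := pullback.lift (𝟙 _) c (by simp [T])
    have hδ : ∀ y : T ⟶ G, δ ≫ (F.map y).left ≫ pullback.fst G.hom b = y.left := fun y => by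
      rw [show (F.map y).left ≫ pullback.fst G.hom b = pullback.fst T.hom b ≫ y.left from pullback.lift_fst _ _ _,
        ← Category.assoc, pullback.lift_fst, Category.id_comp]
    ext1
    have h2 := congrArg (fun m => δ ≫ m ≫ pullback.fst G.hom b) (congrArg Over.Hom.left h1)
    exact (hδ _).symm.trans (h2.trans (hδ 1))

end UnipKerLib
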