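import Groth.Agent.UnipKerLib.Finite
import Groth.Agent.HomTranslLib.Basic
import Groth.Agent.RichLib.QFLocusConstructible

/-!
# Flatness and quasi-finiteness near a specialization of an isogeny
-/

set_option autoImplicit false
set_option backward.isDefEq.respectTransparency false
set_option maxHeartbeats 1000000

universe u

open CategoryTheory CategoryTheory.Limits AlgebraicGeometry MonoidalCategory CartesianMonoidalCategory
open scoped MonObj
open Groth.Agent

namespace UnipKerLib

variable {S : Scheme.{u}} {G H : Over S} [GrpObj G] [IsCommMonObj G] [Flat G.hom] [IsSeparated G.hom]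
    [LocallyOfFinitePresentation G.hom] [GrpObj H] [Smooth H.hom] (u : G ⟶ H) [IsMonHom u]

/-- Near `s` the homomorphism is flat and quasi-finite. -/
theorem exists_nhd {s t : S} (hts : t ⤳ s) (hs : SGA7.FibreUnipotentRankZero s G)
    (hiso : SGA7.IsIsogenyOver (SGA7.fibreHom t u)) :
    ∃ U : S.Opens, s ∈ U ∧ ∀ g : G.left, G.hom.base g ∈ U →
      (u.left.stalkMap g).hom.Flat ∧ FlatMor.fibreDimAt u.left g = 0 := by
  haveI hlfp : LocallyOfFinitePresentation (u.left ≫ H.hom) := by rw [Over.w]; infer_instance
  haveI : LocallyOfFiniteType (u.left ≫ H.hom) := inferInstance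
  haveI : LocallyOfFiniteType u.left := locallyOfFiniteType_of_comp u.left H.hom
  haveI : LocallyOfFinitePresentation u.left := Groth.Agent.S12442.lfp_of_comp_lft u.left H.hom
  haveI : Flat (u.left ≫ H.hom) := by rw [Over.w]; infer_instance
  obtain ⟨d, hd0, hd⟩ := exists_kill u hiso.2
  have hq := fibreDimAt_eq_zero_of_kill u hts hs d hd0 hd
  let eG := (η[G] : 𝟙_ _ ⟶ G).left
  let eH := (η[H] : 𝟙_ _ ⟶ H).left
  have heG : ∀ x, G.hom.base (eG.base x) = x := fun x => by
    rw [← Scheme.Hom.comp_apply, Over.w (η[G] : 𝟙_ _ ⟶ G)]; rfl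
  have heu : ∀ x, u.left.base (eG.base x) = eH.base x := fun x => by
    rw [← Scheme.Hom.comp_apply, ← Over.comp_left, IsMonHom.one_hom]
  -- dimensions at `t`
  let b := S.fromSpecResidueField t
  let F := Over.pullback b
  letI : GrpObj (F.obj G) := Functor.grpObjObj
  letI : GrpObj (F.obj H) := Functor.grpObjObj
  haveI := AbSchLib.isMonHom_pullback_map b u
  haveI : LocallyOfFiniteType (F.obj G).hom := inferInstanceAs (LocallyOfFiniteType (pullback.snd G.hom b))
  haveI : LocallyOfFinitePresentation (F.obj G).hom := inferInstanceAs (LocallyOfFinitePresentation (pullback.snd G.hom b))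
  haveI : LocallyOfFiniteType (F.obj H).hom := inferInstanceAs (LocallyOfFiniteType (pullback.snd H.hom b))
  haveI : Flat (F.obj G).hom := inferInstanceAs (Flat (pullback.snd G.hom b))
  haveI : Smooth (F.obj H).hom := inferInstanceAs (Smooth (pullback.snd H.hom b))
  haveI : GeometricallyReduced (F.obj H).hom := AbSchLib.geometricallyReduced_of_smooth _
  haveI : Surjective (F.map u).left := hiso.1
  haveI : LocallyQuasiFinite (F.map u).left := NeronQFLib.lqf_of_isFinite_kernel (k := S.residueField t) (F.map u) hiso.2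
  haveI : Flat (F.map u).left := AbSchLib.flat_of_surjective (F.map u)
  haveI := GrpHom.lft_left (k := S.residueField t) (F.map u)
  obtain ⟨c, hc, -⟩ := NeronQFLib.exists_preimage (IsPullback.of_hasPullback G.hom b) (eG.base t)
    (IsLocalRing.closedPoint (S.residueField t)) (by rw [heG]; exact (Scheme.fromSpecResidueField_apply t _).symm)
  have hsq := NeronQFLib.isPullback_map b u
  have hdimt : FlatMor.fibreDimAt G.hom (eG.base t) = FlatMor.fibreDimAt H.hom (eH.base t) := by
    have h := FibDimLib.fibreDimAt_comp_of_flat (F.map u).left (F.obj H).hom c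
    rw [Over.w (F.map u), (AlgSpLib.lqf_iff_fibreDimAt_eq_zero (F.map u).left).1 inferInstance c, zero_add] at h
    have e1 : FlatMor.fibreDimAt (F.obj G).hom c = FlatMor.fibreDimAt G.hom (eG.base t) := by
      rw [← hc]; exact FibDimLib.fibreDimAt_baseChange (IsPullback.of_hasPullback G.hom b) c
    have e2 : FlatMor.fibreDimAt (F.obj H).hom ((F.map u).left.base c) = FlatMor.fibreDimAt H.hom (eH.base t) := by
      refine (FibDimLib.fibreDimAt_baseChange (IsPullback.of_hasPullback H.hom b) _).trans ?_
      congr 1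
      show ((F.map u).left ≫ pullback.fst H.hom b).base c = _
      exact (congrArg (fun m => m.base c) hsq.w).symm.trans ((congrArg u.left.base hc).trans (heu t))
    rw [← e1, h, e2]
  -- dimensions at `s`
  obtain ⟨O, n, hO, hOn⟩ := AlgSpLib.exists_open_fibreDimAt_of_smooth H.hom (eH.base s)
  have hle : (n : WithBot ℕ∞) ≤ FlatMor.fibreDimAt G.hom (eG.base s) := by
    rw [← hOn _ ((hts.map eH.continuous).mem_open O.isOpen hO), ← hdimt]
    exact FibDimLib.fibreDimAt_le_of_specializes G.hom (hts.map eG.continuous)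
  -- flatness at the unit over `s`
  let L := AlgebraicClosure (S.residueField s)
  let ξ := Red.geomPt s
  let P := Over.pullback ξ
  letI : GrpObj (P.obj G) := Functor.grpObjObj
  letI : GrpObj (P.obj H) := Functor.grpObjObj
  haveI := AbSchLib.isMonHom_pullback_map ξ u
  haveI : LocallyOfFiniteType (P.obj G).hom := inferInstanceAs (LocallyOfFiniteType (pullback.snd G.hom ξ))
  haveI : LocallyOfFiniteType (P.obj H).hom := inferInstanceAs (LocallyOfFiniteType (pullback.snd H.hom ξ))
  haveI : Smooth (P.obj H).hom := inferInstanceAs (Smooth (pullback.snd H.hom ξ))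
  haveI : AlgebraicGeometry.IsReduced (P.obj H).left := AlgSpLib.isReduced_of_smooth (P.obj H).hom
  have hsqL := NeronQFLib.isPullback_map ξ u
  haveI := GrpHom.lft_left (P.map u)
  let p := IsLocalRing.closedPoint L
  have hξp : ξ.base p = s := by
    show (Spec.map (CommRingCat.ofHom (algebraMap (S.residueField s) L)) ≫ S.fromSpecResidueField s).base p = s
    rw [Scheme.Hom.comp_apply]
    exact Scheme.fromSpecResidueField_apply s _
  obtain ⟨e', he', -⟩ := NeronQFLib.exists_preimage (IsPullback.of_hasPullback G.hom ξ) (eG.base s) p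
    (by rw [heG, hξp])
  have hfe : (pullback.fst H.hom ξ).base ((P.map u).left.base e') = eH.base s := by
    exact (congrArg (fun m => m.base e') hsqL.w).symm.trans ((congrArg u.left.base he').trans (heu s))
  haveI : LocallyQuasiFinite (P.map u).left := by
    refine (AlgSpLib.lqf_iff_fibreDimAt_eq_zero _).2 fun z => ?_
    rw [FibDimLib.fibreDimAt_baseChange hsqL z]
    refine hq _ ?_
    show (pullback.fst G.hom ξ ≫ G.hom).base z = s
    rw [pullback.condition, Scheme.Hom.comp_apply, Subsingleton.elim (α := PrimeSpectrum L) ((pullback.snd G.hom ξ).base z) p, hξp]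
  have hlG : FlatMor.localDim (P.obj G).left e' = FlatMor.fibreDimAt G.hom (eG.base s) := by
    rw [← AlgSpLib.fibreDimAt_eq_localDim (P.obj G).hom, ← he']
    exact FibDimLib.fibreDimAt_baseChange (IsPullback.of_hasPullback G.hom ξ) e'
  have hlH : FlatMor.localDim (P.obj H).left ((P.map u).left.base e') = n := by
    rw [← AlgSpLib.fibreDimAt_eq_localDim (P.obj H).hom, ← hOn _ hO, ← hfe]
    exact FibDimLib.fibreDimAt_baseChange (IsPullback.of_hasPullback H.hom ξ) _
  obtain ⟨x, -, hxe, hxd⟩ := FibDimLib.exists_generic_localDim (P.obj G).hom e'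
  rw [hlG] at hxd
  have hcl := NeronQFLib.dim_closure_eq_of_lqf (P.map u) x
  have hspec : (P.map u).left.base x ⤳ (P.map u).left.base e' := hxe.map (P.map u).left.continuous
  have hcn : topologicalKrullDim (closure ({(P.map u).left.base x} : Set (P.obj H).left)) = n := by
    refine le_antisymm ?_ (hcl ▸ hxd ▸ hle)
    exact hlH ▸ FibDimLib.le_localDim_of_specializes (P.obj H).hom hspec
  have hlx : FlatMor.localDim (P.obj H).left ((P.map u).left.base x) = n :=
    le_antisymm (hlH ▸ FibDimLib.localDim_le_of_specializes hspec)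
      (hcn ▸ FibDimLib.le_localDim_of_specializes (P.obj H).hom specializes_rfl)
  haveI : Flat (P.map u).left :=
    AbSchLib.flat_of_algClosed _ _ _ ⟨x, NeronQFLib.isMax_of_dim (P.obj H).hom _ hlx hcn⟩
  have hflat : FlatLib.FlatAt u.left (eG.base s) := by
    rw [← he']
    exact FlatLib.flatAt_descend_base (IsPullback.of_hasPullback H.hom ξ) hsqL
      (FlatLib.flatAt_of_flat (P.map u).left e')
  -- the open set
  refine ⟨⟨eG.base ⁻¹' ({x | (u.left.stalkMap x).hom.Flat} ∩ u.left.quasiFiniteLocus),
    ((FlatLib.isOpen_setOf_flat_stalkMap u.left).inter u.left.quasiFiniteLocus.isOpen).preimage eG.continuous⟩,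
    ⟨hflat, Scheme.Hom.quasiFiniteAt_iff_isOpen_singleton_asFiber.2
      ((AlgSpLib.fibreDimAt_eq_zero_iff _ _).1 (hq _ (heG s)))⟩, fun g ⟨h1, h2⟩ => ⟨?_, ?_⟩⟩
  · exact HomTransl.flatAt_propagate (HomTransl.hom_equivariant u) _ g (heG _) h1
  · refine (AlgSpLib.fibreDimAt_eq_zero_iff _ _).2 (Scheme.Hom.quasiFiniteAt_iff_isOpen_singleton_asFiber.1 ?_)
    exact HomTransl.propagate (HomTransl.hom_equivariant u) (fun g x => g.QuasiFiniteAt x)
      (fun _ _ _ _ sq x => RichLib.QFLocus.quasiFiniteAt_iff_of_isPullback sq x) _ g (heG _) h2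

end UnipKerLib
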